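import Mathlib
import Cfsg.Agent.S0810
import Cfsg.Agent.Lib.Small.PSL2
import Cfsg.Agent.Lib.Small.SL2.Sylow
import Cfsg.Agent.Lib.Small.PSLn.Out
import Cfsg.Agent.Lib.Classical.Dickson.Tools
import Cfsg.Agent.Lib.Small.ChevAut.Structure

/-!
# Two-subgroups of the automorphism group of `PSL₂(q)`, `q ≡ 3, 5 (mod 8)`
-/

set_option autoImplicit false
set_option linter.style.haveILetI false

namespace Cfsg.Agent.Lead.JankoRee

open Matrix Subgroup Cfsg.Agent.Small.PSL2

variable {F : Type*} [Field F] [Fintype F]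

local notation "SL2" => Matrix.SpecialLinearGroup (Fin 2) F
local notation "P2" => Matrix.ProjectiveSpecialLinearGroup (Fin 2) F

theorem two_ne_zero_of_odd_card (ho : Odd (Fintype.card F)) : (2 : F) ≠ 0 := by
  intro h
  have h' : ((2 : ℕ) : F) = 0 := by exact_mod_cast h
  obtain ⟨p, hp⟩ := CharP.exists F
  haveI := hp
  obtain ⟨n, hpp, hn⟩ := FiniteField.card F p
  have hp2 : p = 2 := (Nat.prime_dvd_prime_iff_eq hpp Nat.prime_two).1 ((CharP.cast_eq_zero_iff F p 2).1 h')
  rw [hn, hp2, Nat.odd_pow_iff n.pos.ne'] at ho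
  exact absurd ho (by decide)

theorem psl_simple_of_odd (hq : 3 < Fintype.card F) : IsSimpleGroup P2 :=
  S0810.psl_simple_big (by omega)

theorem two_dvd_card (ho : Odd (Fintype.card F)) : 2 ∣ Nat.card P2 := by
  obtain ⟨k, hk⟩ := ho
  have h := Classical.Dickson.card_psl F
  have h1 : Nat.gcd 2 (Fintype.card F - 1) = 2 := Nat.gcd_eq_left ⟨k, by omega⟩
  obtain ⟨l, hl⟩ := (Nat.even_mul_succ_self k).two_dvd
  refine ⟨Fintype.card F * (2 * l), Nat.eq_of_mul_eq_mul_right two_pos ?_⟩
  rw [h1] at h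
  rw [h, hk, show (2 * k + 1) ^ 2 - 1 = 4 * (k * (k + 1)) by
    have : (2 * k + 1) ^ 2 = 4 * (k * (k + 1)) + 1 := by ring
    omega, hl]
  ring

/-- With abelian Sylow 2-subgroups, `q ≡ 3, 5 (mod 8)`. -/
theorem mod_eight (ho : Odd (Fintype.card F)) (hq : 3 < Fintype.card F)
    (hab : ∀ P : Sylow 2 P2, IsMulCommutative ↥(P : Subgroup P2)) :
    Fintype.card F % 8 = 3 ∨ Fintype.card F % 8 = 5 := by
  classical
  haveI : Fact (Nat.Prime 2) := ⟨Nat.prime_two⟩
  haveI : Finite P2 := Finite.of_surjective _ pr_surjective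
  haveI := psl_simple_of_odd hq
  by_contra hne
  have h17 : Fintype.card F % 8 = 1 ∨ Fintype.card F % 8 = 7 := by
    have := Nat.odd_iff.1 ho
    omega
  obtain ⟨S⟩ := (inferInstance : Nonempty (Sylow 2 SL2))
  obtain ⟨hC, hN, -⟩ := Small.SL2C.sylow_two (two_ne_zero_of_odd_card ho) S
  have hN := hN h17
  let P : Sylow 2 P2 := S.mapSurjective pr_surjective
  have hZS : Subgroup.center SL2 ≤ (S : Subgroup SL2) := by
    rw [← hN]
    exact fun z hz => mem_normalizer_iff.2 fun x => by
      rw [Subgroup.mem_center_iff.1 hz x |>.symm, mul_inv_cancel_right]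
  have hker : (pr : SL2 →* P2).ker = Subgroup.center SL2 := QuotientGroup.ker_mk' _
  have hPC : normalizer ((P : Subgroup P2) : Set P2) ≤ centralizer ((P : Subgroup P2) : Set P2) := by
    intro x hx
    have hxP : x ∈ (P : Subgroup P2) := by
      obtain ⟨A, rfl⟩ := pr_surjective x
      refine ⟨A, ?_, rfl⟩
      rw [← hN]
      refine mem_normalizer_iff.2 fun B => ⟨fun hB => ?_, fun hB => ?_⟩
      · obtain ⟨C, hC', he⟩ := (mem_normalizer_iff.1 hx (pr B)).1 ⟨B, hB, rfl⟩
        have hk : C⁻¹ * (A * B * A⁻¹) ∈ Subgroup.center SL2 := by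
          rw [← hker, MonoidHom.mem_ker, map_mul, map_inv, he, map_mul, map_mul, map_inv, inv_mul_cancel]
        have := mul_mem hC' (hZS hk)
        rwa [mul_inv_cancel_left] at this
      · obtain ⟨C, hC', he⟩ := (mem_normalizer_iff.1 hx (pr B)).2 (by
          rw [← map_inv, ← map_mul, ← map_mul]; exact ⟨_, hB, rfl⟩)
        have hk : C⁻¹ * B ∈ Subgroup.center SL2 := by
          rw [← hker, MonoidHom.mem_ker, map_mul, map_inv, he, inv_mul_cancel]
        have := mul_mem hC' (hZS hk)
        rwa [mul_inv_cancel_left] at this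
    haveI := hab P
    exact mem_centralizer_iff.2 fun y hy => congrArg Subtype.val (mul_comm' (⟨y, hy⟩ : (P : Subgroup P2)) ⟨x, hxP⟩)
  have hcomp := MonoidHom.ker_transferSylow_isComplement' P hPC
  have hcard := hcomp.card_mul
  rcases IsSimpleGroup.eq_bot_or_eq_top_of_normal _ (MonoidHom.transferSylow P hPC).normal_ker with h | h
  · rw [h, Subgroup.card_bot, one_mul] at hcard
    have htop : (P : Subgroup P2) = ⊤ := eq_top_of_card_eq _ hcard
    haveI := hab P
    refine S0810.psl_not_solvable (F := F) (by omega) (Group.isSolvable_of_comm fun a b => ?_)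
    exact congrArg Subtype.val
      (mul_comm' (⟨a, htop ▸ mem_top _⟩ : (P : Subgroup P2)) ⟨b, htop ▸ mem_top _⟩)
  · rw [h, Subgroup.card_top] at hcard
    have h1 : Nat.card (P : Subgroup P2) = 1 :=
      Nat.eq_of_mul_eq_mul_left (Nat.card_pos (α := P2)) (hcard.trans (mul_one _).symm)
    have h2 : 2 ∣ Nat.card P2 := two_dvd_card ho
    have := P.dvd_card_of_dvd_card h2
    rw [h1] at this
    omega

/-- The 2-part of the automorphism group is at most `8`. -/
theorem not_sixteen_dvd (ho : Odd (Fintype.card F)) (h35 : Fintype.card F % 8 = 3 ∨ Fintype.card F % 8 = 5) :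
    ¬ 16 ∣ Nat.card (MulAut P2) := by
  classical
  haveI : Finite P2 := Finite.of_surjective _ pr_surjective
  haveI : Finite (MulAut P2) := Finite.of_injective (fun e => (e : P2 → P2)) DFunLike.coe_injective
  haveI : Finite (GL (Fin 2) F) := inferInstance
  haveI : Finite (F ≃+* F) := Finite.of_injective (fun e => (e : F → F)) DFunLike.coe_injective
  obtain ⟨p, hp⟩ := CharP.exists F
  haveI := hp
  obtain ⟨n, hpp, hn⟩ := FiniteField.card F p
  haveI : Fact p.Prime := ⟨hpp⟩
  set f : ℕ := (n : ℕ)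
  have hfo : Odd f := by
    by_contra hev
    rw [Nat.not_odd_iff_even] at hev
    obtain ⟨m, hm⟩ := hev.two_dvd
    rw [hn, hm, pow_mul'] at h35
    have hpm : Odd (p ^ m) := by
      rw [hn, hm, pow_mul', Nat.odd_pow_iff two_ne_zero] at ho
      exact ho
    have := Nat.odd_iff.1 hpm
    have hc : p ^ m % 8 < 8 := Nat.mod_lt _ (by norm_num)
    have hsq : (p ^ m) ^ 2 % 8 = (p ^ m % 8) ^ 2 % 8 := Nat.pow_mod _ 2 8
    have h8 : p ^ m % 8 % 2 = 1 := by omega
    interval_cases hv : p ^ m % 8 <;> simp_all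
  set I := (conjP (F := F)).range
  -- the index of the inner-diagonal automorphisms
  have hidx : I.index ∣ f := by
    have hsurj : Function.Surjective (fun σ : F ≃+* F => (QuotientGroup.mk (fieldP σ) : MulAut P2 ⧸ I)) := by
      intro z
      obtain ⟨α, rfl⟩ := QuotientGroup.mk_surjective z
      obtain ⟨g, σ, hα⟩ := aut_eq hn α⁻¹
      refine ⟨σ⁻¹, QuotientGroup.eq.2 ⟨g⁻¹, ?_⟩⟩
      rw [show α = (conjP g * fieldP σ)⁻¹ by rw [← hα, inv_inv], map_inv, map_inv]
      group
    have hrel : I.relIndex (fieldP (F := F)).range = I.index := by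
      rw [relIndex, index_eq_card, index_eq_card]
      refine Nat.card_eq_of_bijective
        (Quotient.map' (fun x : (fieldP (F := F)).range => (x : MulAut P2)) fun a b h => ?_) ⟨?_, ?_⟩
      · rw [QuotientGroup.leftRel_apply] at h ⊢
        exact mem_subgroupOf.1 h
      · intro a b h
        induction a using Quotient.inductionOn' with | _ a => ?_
        induction b using Quotient.inductionOn' with | _ b => ?_
        refine Quotient.sound' ?_
        rw [QuotientGroup.leftRel_apply]
        exact mem_subgroupOf.2 (QuotientGroup.eq.1 h)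
      · intro z
        obtain ⟨σ, rfl⟩ := hsurj z
        exact ⟨QuotientGroup.mk ⟨fieldP σ, σ, rfl⟩, rfl⟩
    rw [← hrel]
    refine (relIndex_dvd_card _ _).trans ((card_range_dvd _).trans ?_)
    exact dvd_of_eq (Small.ChevAut.card_ringAut hn)
  -- the order of the inner-diagonal automorphisms
  set q := Fintype.card F
  have hI : Nat.card I ∣ q * (q ^ 2 - 1) := by
    let sc : Fˣ →* GL (Fin 2) F := Units.map (algebraMap F (Matrix (Fin 2) (Fin 2) F)).toMonoidHom
    have hsc : Function.Injective sc := fun a b h => Units.ext (by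
      have h' := congrArg (fun u : GL (Fin 2) F => u.val 0 0) h
      simpa [sc, Matrix.algebraMap_matrix_apply] using h')
    have hle : sc.range ≤ (conjP (F := F)).ker := by
      rintro _ ⟨a, rfl⟩
      refine MonoidHom.mem_ker.2 (MulEquiv.ext fun x => ?_)
      obtain ⟨A, rfl⟩ := pr_surjective x
      rw [conjP_apply, MulAut.one_apply]
      refine congrArg pr (Subtype.ext ?_)
      rw [conjSL_val]
      show algebraMap F (Matrix (Fin 2) (Fin 2) F) a * A.1 * (sc a)⁻¹.val = A.1
      rw [Algebra.commutes, mul_assoc]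
      exact (congrArg (A.1 * ·) (Units.mul_inv (sc a))).trans (mul_one _)
    have h1 : q - 1 ∣ Nat.card (conjP (F := F)).ker := by
      have := card_dvd_of_le hle
      rwa [← Nat.card_congr (MonoidHom.ofInjective hsc).toEquiv, Nat.card_eq_fintype_card, Fintype.card_units] at this
    have h2 : Nat.card I * Nat.card (conjP (F := F)).ker = (q - 1) * (q * (q ^ 2 - 1)) := by
      have := (conjP (F := F)).ker.card_mul_index
      rw [index_ker, mul_comm] at this
      rw [this, Matrix.card_GL_field, Fin.prod_univ_two]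
      simp only [Fin.val_zero, Fin.val_one, pow_zero, pow_one]
      rw [show q ^ 2 - q = (q - 1) * q by rw [Nat.sub_mul, one_mul, pow_two]]
      ring
    obtain ⟨c, hc⟩ := h1
    refine ⟨c, Nat.eq_of_mul_eq_mul_left (show 0 < q - 1 by
      have := Fintype.one_lt_card (α := F); omega) ?_⟩
    rw [← h2, hc]; ring
  intro h16
  rw [← I.card_mul_index] at h16
  have h16' : 16 ∣ q * (q ^ 2 - 1) * f := h16.trans (Nat.mul_dvd_mul hI hidx)
  have hcop : ∀ m : ℕ, Odd m → Nat.Coprime 16 m := fun m hm =>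
    (show Nat.Coprime (2 ^ 4) m from Nat.Coprime.pow_left 4 hm.coprime_two_left)
  have hq1 := (hcop _ ho).dvd_of_dvd_mul_left ((hcop _ hfo).dvd_of_dvd_mul_right h16')
  have hmod : q ^ 2 % 16 = 9 := by
    rw [Nat.pow_mod]
    rcases (show q % 16 = 3 ∨ q % 16 = 5 ∨ q % 16 = 11 ∨ q % 16 = 13 by omega) with h | h | h | h <;> rw [h]
  omega

/-- An abelian 2-subgroup of the automorphism group has order at most `4`. -/
theorem abelian_two_card (ho : Odd (Fintype.card F))
    (h35 : Fintype.card F % 8 = 3 ∨ Fintype.card F % 8 = 5) (B : Subgroup (MulAut P2)) (hB : IsPGroup 2 B)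
    (hab : ∀ x ∈ B, ∀ y ∈ B, x * y = y * x) : Nat.card B ≤ 4 := by
  classical
  haveI : Fact (Nat.Prime 2) := ⟨Nat.prime_two⟩
  haveI : Finite P2 := Finite.of_surjective _ pr_surjective
  haveI : Finite (MulAut P2) := Finite.of_injective (fun e => (e : P2 → P2)) DFunLike.coe_injective
  by_contra hlt
  obtain ⟨k, hk⟩ := IsPGroup.iff_card.1 hB
  have hk3 : 3 ≤ k := by
    by_contra h
    interval_cases k <;> omega
  have h2 := two_ne_zero_of_odd_card ho
  let g : GL (Fin 2) F := Matrix.GeneralLinearGroup.mkOfDetNeZero !![1, 1; -1, 1]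
    (by simp [Matrix.det_fin_two]; intro h; exact h2 (by rw [← h]; norm_num))
  let w : GL (Fin 2) F := Matrix.GeneralLinearGroup.mkOfDetNeZero !![1, 0; 0, -1]
    (by simp [Matrix.det_fin_two])
  set a := conjP g
  set b := conjP w
  have hsc : ∀ (h : GL (Fin 2) F) (c : F), h.val = c • (1 : Matrix (Fin 2) (Fin 2) F) → conjP h = 1 := by
    intro h c hh
    refine MulEquiv.ext fun x => ?_
    obtain ⟨A, rfl⟩ := pr_surjective x
    rw [conjP_apply, MulAut.one_apply]
    refine congrArg pr (Subtype.ext ?_)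
    rw [conjSL_val, show h.val * A.1 = A.1 * h.val by rw [hh, smul_mul_assoc, mul_smul_comm, one_mul, mul_one],
      mul_assoc, Units.mul_inv, mul_one]
  have ha4 : a ^ 4 = 1 := by
    rw [← map_pow]
    refine hsc _ (-4) ?_
    ext i j; fin_cases i <;> fin_cases j <;> simp [g, pow_succ, Matrix.mul_fin_two] <;> ring
  have hb2 : b * b = 1 := by
    rw [← map_mul]
    refine hsc _ 1 ?_
    ext i j; fin_cases i <;> fin_cases j <;> simp [w, Matrix.mul_fin_two]
  have hinv : a * b * a = b := by
    rw [← map_mul, ← map_mul, ← mul_inv_eq_one, ← map_inv, ← map_mul]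
    refine hsc _ 2 ?_
    have e : (g * w * g).val = (2 : F) • w.val := by
      ext i j; fin_cases i <;> fin_cases j <;> simp [g, w, Matrix.mul_fin_two] <;> ring
    rw [Units.val_mul, e, smul_mul_assoc, Units.mul_inv]
  have ha2 : a * a ≠ 1 := by
    intro h
    rw [← map_mul] at h
    have := congrFun (congrFun (scalar_of_conjP_eq_one h) 0) 1
    simp [g, Matrix.mul_fin_two] at this
    exact h2 (by rw [← this]; norm_num)
  set D := closure ({a, b} : Set (MulAut P2))
  have hbab : b * a * b⁻¹ = a⁻¹ := by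
    rw [inv_eq_of_mul_eq_one_right hb2, eq_inv_iff_mul_eq_one]
    calc b * a * b * a = b * (a * b * a) := by group
      _ = 1 := by rw [hinv, hb2]
  have hD : IsPGroup 2 D := by
    have hA : IsPGroup 2 (zpowers a) := by
      obtain ⟨j, -, hj⟩ := (Nat.dvd_prime_pow Nat.prime_two).1
        ((orderOf_dvd_of_pow_eq_one ha4).trans (dvd_of_eq (by norm_num : 4 = 2 ^ 2)))
      exact IsPGroup.of_card (n := j) (by rw [Nat.card_zpowers, hj])
    have hB' : IsPGroup 2 (zpowers b) := by
      obtain ⟨j, -, hj⟩ := (Nat.dvd_prime_pow Nat.prime_two).1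
        ((orderOf_dvd_of_pow_eq_one (show b ^ 2 = 1 by rw [pow_two, hb2])).trans (dvd_of_eq (pow_one 2).symm))
      exact IsPGroup.of_card (n := j) (by rw [Nat.card_zpowers, hj])
    refine (hB'.to_sup_of_normal_right' hA ?_).to_le ((closure_le _).2 ?_)
    · rw [zpowers_le, mem_normalizer_iff_map_conj_eq, MonoidHom.map_zpowers]
      show zpowers (b * a * b⁻¹) = zpowers a
      rw [hbab, zpowers_inv]
    · rintro x (rfl | rfl)
      · exact mem_sup_right (mem_zpowers _)
      · exact mem_sup_left (mem_zpowers _)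
  obtain ⟨SB, hSB⟩ := hB.exists_le_sylow
  obtain ⟨SD, hSD⟩ := hD.exists_le_sylow
  have hcard : Nat.card SB = Nat.card B := by
    obtain ⟨j, hj⟩ := IsPGroup.iff_card.1 SB.2
    have h1 := card_dvd_of_le hSB
    have h3 : j ≤ 3 := by
      by_contra h
      exact not_sixteen_dvd ho h35 ((pow_dvd_pow 2 (show 4 ≤ j by omega)).trans
        (hj ▸ card_subgroup_dvd_card (SB : Subgroup (MulAut P2))))
    rw [hk, hj] at h1
    have := Nat.pow_dvd_pow_iff_le_right (show 1 < 2 by norm_num) |>.1 h1
    rw [hk]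
    exact hj.trans (by congr 1; omega)
  have hSBB : (SB : Subgroup (MulAut P2)) = B := (eq_of_le_of_card_ge hSB hcard.le).symm
  obtain ⟨c, hc⟩ := MulAction.exists_smul_eq (MulAut P2) SB SD
  have hpt : ∀ x ∈ D, c⁻¹ * x * c ∈ B := fun x hx => by
    have h := hSD hx
    rw [← hc, Sylow.coe_subgroup_smul, hSBB] at h
    obtain ⟨y, hy, rfl⟩ := h
    show c⁻¹ * (c * y * c⁻¹) * c ∈ B
    rwa [show c⁻¹ * (c * y * c⁻¹) * c = y by group]
  have hcom : a * b = b * a := by
    have h := hab _ (hpt a (subset_closure (Or.inl rfl))) _ (hpt b (subset_closure (Or.inr rfl)))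
    calc a * b = c * ((c⁻¹ * a * c) * (c⁻¹ * b * c)) * c⁻¹ := by group
      _ = b * a := by rw [h]; group
  refine ha2 ?_
  have : b * (a * a) = b := by rw [← mul_assoc, ← hcom, hinv]
  exact mul_eq_left.1 this

/-- A nonabelian simple group has a `p`-element normalizer not centralizing an abelian Sylow subgroup. -/
theorem exists_moving_normalizer {K : Type*} [Group K] [Finite K] [IsSimpleGroup K] (hK : ¬ Group.IsSolvable K)
    {p : ℕ} [Fact p.Prime] (hp : p ∣ Nat.card K) (P : Sylow p K) (hP : IsMulCommutative ↥(P : Subgroup K)) :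
    ∃ r ∈ normalizer ((P : Subgroup K) : Set K), r ∉ centralizer ((P : Subgroup K) : Set K) := by
  by_contra hne
  have hPC : normalizer ((P : Subgroup K) : Set K) ≤ centralizer ((P : Subgroup K) : Set K) :=
    fun x hx => by_contra fun h => hne ⟨x, hx, h⟩
  have hcard := (MonoidHom.ker_transferSylow_isComplement' P hPC).card_mul
  rcases IsSimpleGroup.eq_bot_or_eq_top_of_normal _ (MonoidHom.transferSylow P hPC).normal_ker with h | h
  · rw [h, Subgroup.card_bot, one_mul] at hcard
    have htop : (P : Subgroup K) = ⊤ := eq_top_of_card_eq _ hcard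
    refine hK (Group.isSolvable_of_comm fun a b => ?_)
    exact congrArg Subtype.val
      (mul_comm' (⟨a, htop ▸ mem_top _⟩ : (P : Subgroup K)) ⟨b, htop ▸ mem_top _⟩)
  · rw [h, Subgroup.card_top] at hcard
    have h1 : Nat.card (P : Subgroup K) = 1 :=
      Nat.eq_of_mul_eq_mul_left (Nat.card_pos (α := K)) (hcard.trans (mul_one _).symm)
    have := P.dvd_card_of_dvd_card hp
    rw [h1] at this
    exact (Fact.out : p.Prime).not_dvd_one this

end Cfsg.Agent.Lead.JankoRee
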