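import Cfsg.Agent.Lib.Lead.JankoRee.Frob
import Cfsg.Agent.Lib.Lie.StemSylow

/-!
# No perfect 2-cover; automorphisms fixing a Sylow 2-subgroup
-/

set_option autoImplicit false
set_option linter.style.haveILetI false

namespace Cfsg.Agent.Lead.JankoRee

open Subgroup
open scoped commutatorElement

universe u v

variable {G : Type u} [Group G] [Finite G] [IsSimpleGroup G] {F : Type v} [Field F] [Fintype F]

namespace RCtx

variable (D : RCtx G F)

/-- An element inducing an automorphism of order `7` with the relation of a primitive cubic. -/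
theorem exists_n : ∃ n : G, n ∈ D.NS ∧
    (∀ k : ℕ, ¬ 7 ∣ k → ∀ x ∈ D.SS, x ≠ 1 → n ^ k * x * (n ^ k)⁻¹ ≠ x) ∧
    (∀ g ∈ D.NS, ∃ j : ℕ, ∀ x ∈ D.SS, g * (n * (g⁻¹ * x * g) * n⁻¹) * g⁻¹ = n ^ j * x * (n ^ j)⁻¹) := by
  obtain ⟨⟨m, n, rfl⟩, hm, hnorm, hfix⟩ := D.exists_seven
  refine ⟨n, n.2, fun k hk x hx hx1 h => ?_, fun g hg => ?_⟩
  · refine hfix k hk ⟨x, hx⟩ (fun e => hx1 (congrArg Subtype.val e)) (Subtype.ext ?_)
    rw [SubgroupClass.coe_pow, ← map_pow, θ_apply, SubgroupClass.coe_pow]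
    exact h
  · have hmem := hnorm.conj_mem _ (mem_zpowers (⟨D.θ n, n, rfl⟩ : D.H)) ⟨D.θ ⟨g, hg⟩, _, rfl⟩
    rw [← mem_powers_iff_mem_zpowers] at hmem
    obtain ⟨j, hj⟩ := hmem
    refine ⟨j, fun x hx => ?_⟩
    have h := congrArg (fun a : D.H => (((a : MulAut D.SS) ⟨x, hx⟩ : D.SS) : G)) hj
    simp only [SubgroupClass.coe_pow, coe_mul, coe_inv, ← map_pow, ← map_inv, ← map_mul, θ_apply] at h
    rw [h]
    group

omit [IsSimpleGroup G] in
theorem conj_mem_S {g x : G} (hg : g ∈ D.NS) (hx : x ∈ D.SS) : g * x * g⁻¹ ∈ D.SS :=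
  (mem_normalizer_iff.1 hg x).1 hx

/-- Generators of the Sylow subgroup cyclically permuted by an element of the normaliser. -/
theorem exists_cubic : ∃ a b c h : G, (∀ s ∈ D.SS, s ∈ closure ({a, b, c} : Set G)) ∧
    a ∈ D.SS ∧ b ∈ D.SS ∧ c ∈ D.SS ∧ h * a = b * h ∧ h * b = c * h ∧ h * c = a * b * h := by
  classical
  obtain ⟨n, hn, hfix, -⟩ := D.exists_n
  obtain ⟨x, hx, hx1⟩ : ∃ x ∈ D.SS, x ≠ 1 := ⟨D.t, D.t_mem, D.t_ne⟩
  set x1 := n * x * n⁻¹ with e1
  set x2 := n * x1 * n⁻¹ with e2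
  set x3 := n * x2 * n⁻¹ with e3
  set x4 := n * x3 * n⁻¹ with e4
  have h1 : x1 ∈ D.SS := D.conj_mem_S hn hx
  have h2 : x2 ∈ D.SS := D.conj_mem_S hn h1
  have h3 : x3 ∈ D.SS := D.conj_mem_S hn h2
  have hk : ∀ k, ¬ 7 ∣ k → n ^ k * x * (n ^ k)⁻¹ ≠ x := fun k hk => hfix k hk x hx hx1
  have d1 : x1 ≠ x := fun e => hk 1 (by norm_num) (Eq.trans (by rw [e1]; group) e)
  have d2 : x2 ≠ x := fun e => hk 2 (by norm_num) (Eq.trans (by rw [e2, e1, pow_two]; group) e)
  have d3 : x3 ≠ x := fun e => hk 3 (by norm_num) (Eq.trans (by rw [e3, e2, e1]; simp only [pow_succ, pow_zero, one_mul, mul_inv_rev, mul_assoc]) e)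
  have d4 : x4 ≠ x := fun e => hk 4 (by norm_num) (Eq.trans (by rw [e4, e3, e2, e1]; simp only [pow_succ, pow_zero, one_mul, mul_inv_rev, mul_assoc]) e)
  have ninj : ∀ y z : G, n * y * n⁻¹ = n * z * n⁻¹ → y = z := fun y z e => mul_left_cancel (mul_right_cancel e)
  have hne : ∀ {y : G}, y ≠ 1 → n * y * n⁻¹ ≠ 1 := fun hy e => hy (by
    have := congrArg (fun z => n⁻¹ * z * n) e
    simpa [mul_assoc] using this)
  have z1 : x1 ≠ 1 := hne hx1
  have z2 : x2 ≠ 1 := hne z1
  have z3 : x3 ≠ 1 := hne z2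
  have d12 : x2 ≠ x1 := fun e => d1 (ninj _ _ (e2.symm.trans (e.trans e1)))
  have d13 : x3 ≠ x1 := fun e => d2 (ninj _ _ (e3.symm.trans (e.trans e1)))
  have d23 : x3 ≠ x2 := fun e => d12 (ninj _ _ (e3.symm.trans (e.trans e2)))
  have mulc : ∀ y z : G, n * (y * z) * n⁻¹ = (n * y * n⁻¹) * (n * z * n⁻¹) := fun y z => by group
  have hsq : ∀ {y z : G}, y ∈ D.SS → z ∈ D.SS → y * z = 1 → y = z := fun {y z} hy hz e => by
    rw [← inv_eq_of_mul_eq_one_left e, inv_eq_of_mul_eq_one_right (D.sq_S hz)]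
  -- the basis
  have hbasis : x2 ≠ x * x1 := fun e => by
    have e3' : x3 = x := by
      rw [e3, e, mulc, ← e1, ← e2, e, ← mul_assoc, D.S_comm h1 hx, mul_assoc, D.sq_S h1, mul_one]
    exact d3 e3'
  set Sp := closure ({x, x1, x2} : Set G)
  have hle : Sp ≤ D.SS := (closure_le _).2 (by
    simp only [Set.insert_subset_iff, Set.singleton_subset_iff]
    exact ⟨hx, h1, h2⟩)
  have hSp : Sp = D.SS := by
    refine eq_of_le_of_card_ge hle ?_
    have m0 : x ∈ Sp := subset_closure (by simp)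
    have m1 : x1 ∈ Sp := subset_closure (by simp)
    have m2 : x2 ∈ Sp := subset_closure (by simp)
    have hsub : ({1, x, x1, x * x1, x2} : Finset G) ⊆ (Set.toFinite (Sp : Set G)).toFinset := by
      intro w hw
      rw [Set.Finite.mem_toFinset]
      simp only [Finset.mem_insert, Finset.mem_singleton] at hw
      rcases hw with rfl | rfl | rfl | rfl | rfl
      exacts [one_mem _, m0, m1, mul_mem m0 m1, m2]
    have c5 := Finset.card_le_card hsub
    have q1 : (1 : G) ≠ x * x1 := fun e => d1 (hsq hx h1 e.symm).symm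
    have q2 : x ≠ x * x1 := fun e => z1 (mul_eq_left.1 e.symm)
    have q3 : x1 ≠ x * x1 := fun e => hx1 (mul_eq_right.1 e.symm)
    rw [Finset.card_insert_of_notMem (by simp [Ne.symm hx1, Ne.symm z1, q1, Ne.symm z2]),
      Finset.card_insert_of_notMem (by simp [Ne.symm d1, q2, Ne.symm d2]),
      Finset.card_insert_of_notMem (by simp [q3, Ne.symm d12]),
      Finset.card_insert_of_notMem (by simp [Ne.symm hbasis]), Finset.card_singleton,
      ← Nat.card_eq_card_finite_toFinset] at c5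
    have hdvd := card_dvd_of_le hle
    rw [D.card_S] at hdvd ⊢
    have h8 := Nat.le_of_dvd (by norm_num) hdvd
    change 5 ≤ Nat.card Sp at c5
    interval_cases hS : Nat.card Sp <;> omega
  -- the cubic
  haveI : IsMulCommutative ↥Sp := isMulCommutative_closure (fun y hy z hz =>
    D.S_comm (hle (subset_closure hy)) (hle (subset_closure hz)))
  let P : Subgroup G :=
    { carrier := {1, x, x1, x2, x * x1, x * x2, x1 * x2, x * x1 * x2}
      one_mem' := by simp
      mul_mem' := by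
        intro a b ha hb
        have c1 := D.S_comm h1 hx
        have c2 := D.S_comm h2 hx
        have c3 := D.S_comm h2 h1
        have l1 : ∀ w, x1 * (x * w) = x * (x1 * w) := fun w => by rw [← mul_assoc, c1, mul_assoc]
        have l2 : ∀ w, x2 * (x * w) = x * (x2 * w) := fun w => by rw [← mul_assoc, c2, mul_assoc]
        have l3 : ∀ w, x2 * (x1 * w) = x1 * (x2 * w) := fun w => by rw [← mul_assoc, c3, mul_assoc]
        have s0 : ∀ w, x * (x * w) = w := fun w => by rw [← mul_assoc, D.sq_S hx, one_mul]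
        have s1 : ∀ w, x1 * (x1 * w) = w := fun w => by rw [← mul_assoc, D.sq_S h1, one_mul]
        have s2 : ∀ w, x2 * (x2 * w) = w := fun w => by rw [← mul_assoc, D.sq_S h2, one_mul]
        simp only [Set.mem_insert_iff, Set.mem_singleton_iff] at ha hb ⊢
        rcases ha with rfl | rfl | rfl | rfl | rfl | rfl | rfl | rfl <;>
          rcases hb with rfl | rfl | rfl | rfl | rfl | rfl | rfl | rfl <;>
            simp [mul_assoc, c1, c2, c3, l1, l2, l3, s0, s1, s2, D.sq_S hx, D.sq_S h1, D.sq_S h2]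
      inv_mem' := by
        intro a ha
        have : a ∈ D.SS := by
          simp only [Set.mem_insert_iff, Set.mem_singleton_iff] at ha
          rcases ha with rfl | rfl | rfl | rfl | rfl | rfl | rfl | rfl
          exacts [one_mem _, hx, h1, h2, mul_mem hx h1, mul_mem hx h2, mul_mem h1 h2, mul_mem (mul_mem hx h1) h2]
        rw [inv_eq_of_mul_eq_one_right (D.sq_S this)]
        exact ha }
  have hP : Sp ≤ P := (closure_le _).2 (by
    simp only [Set.insert_subset_iff, Set.singleton_subset_iff]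
    exact ⟨Or.inr (Or.inl rfl), Or.inr (Or.inr (Or.inl rfl)), Or.inr (Or.inr (Or.inr (Or.inl rfl)))⟩)
  have hc := hP (hSp ▸ h3 : x3 ∈ Sp)
  change x3 ∈ ({1, x, x1, x2, x * x1, x * x2, x1 * x2, x * x1 * x2} : Set G) at hc
  simp only [Set.mem_insert_iff, Set.mem_singleton_iff] at hc
  rcases hc with h | h | h | h | h | h | h | h
  · exact absurd h z3
  · exact absurd h d3
  · exact absurd h d13
  · exact absurd h d23
  · exact ⟨x, x1, x2, n, fun s hs => (hSp ▸ hs : s ∈ Sp), hx, h1, h2, by rw [e1]; group,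
      by rw [e2]; group, by rw [← h, e3]; group⟩
  · -- reversed
    refine ⟨x3, x2, x1, n⁻¹, fun s hs => ?_, h3, h2, h1, by rw [e3]; group, by rw [e2]; group, ?_⟩
    · have hle' : Sp ≤ closure ({x3, x2, x1} : Set G) := (closure_le _).2 (by
        simp only [Set.insert_subset_iff, Set.singleton_subset_iff]
        refine ⟨?_, subset_closure (by simp), subset_closure (by simp)⟩
        have e : x = x3 * x2 := by rw [h, mul_assoc, D.sq_S h2, mul_one]
        rw [e]
        exact mul_mem (subset_closure (by simp)) (subset_closure (by simp)))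
      exact hle' (hSp ▸ hs)
    · have e : x3 * x2 = x := by rw [h, mul_assoc, D.sq_S h2, mul_one]
      rw [e, e1]; group
  · exfalso
    refine hbasis (ninj _ _ ?_)
    rw [← e3, mulc, ← e1, ← e2]
    exact h
  · exfalso
    refine d4 ?_
    rw [e4, h, mulc, mulc, ← e1, ← e2, ← e3, h]
    calc x1 * x2 * (x * x1 * x2) = x1 * (x2 * (x * x1)) * x2 := by group
      _ = x1 * ((x * x1) * x2) * x2 := by rw [D.S_comm h2 (mul_mem hx h1)]
      _ = (x1 * (x * x1)) * (x2 * x2) := by group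
      _ = x := by rw [D.sq_S h2, mul_one, D.S_comm hx h1, ← mul_assoc, D.sq_S h1, one_mul]

/-- No perfect central extension by a nontrivial 2-group. -/
theorem no_cover (D : RCtx G F) {L : Type*} [Group L] [Finite L] (σ : L →* G) (hσ : Function.Surjective σ)
    (hperf : commutator L = ⊤) (hc : σ.ker ≤ center L) (h2 : IsPGroup 2 σ.ker) : σ.ker = ⊥ := by
  haveI : Fact (Nat.Prime 2) := ⟨Nat.prime_two⟩
  obtain ⟨a, b, c, h, hgen, ha, hb, hcS, r1, r2, r3⟩ := D.exists_cubic
  obtain ⟨P0⟩ := (inferInstance : Nonempty (Sylow 2 L))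
  obtain ⟨g, hg⟩ := MulAction.exists_smul_eq G (P0.mapSurjective hσ) D.S
  obtain ⟨l, rfl⟩ := hσ g
  let P := l • P0
  have hPS : ∀ x ∈ (P : Subgroup L), σ x ∈ D.SS := by
    rintro _ ⟨y, hy, rfl⟩
    show σ (l * y * l⁻¹) ∈ D.SS
    rw [map_mul, map_mul, map_inv]
    show _ ∈ (D.S : Subgroup G)
    rw [← hg, Sylow.coe_subgroup_smul]
    exact ⟨σ y, ⟨y, hy, rfl⟩, rfl⟩
  haveI hPc : IsMulCommutative ↥(P : Subgroup L) := ⟨⟨fun x y => Subtype.ext
    (Cfsg.Agent.Lie.StemSylow.lifts_commute σ hσ hc (D.S_comm ha hb) (D.S_comm ha hcS) (D.S_comm hb hcS)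
      r1 r2 r3 (hgen _ (hPS x x.2)) (hgen _ (hPS y y.2)))⟩⟩
  by_contra hne
  obtain ⟨k, hk⟩ := IsPGroup.iff_card.1 h2
  have hk0 : k ≠ 0 := fun h => hne (eq_bot_of_card_eq _ (by rw [hk, h, pow_zero]))
  obtain ⟨⟨z, hz⟩, hzo⟩ := exists_prime_orderOf_dvd_card' 2 (G := σ.ker) (by rw [hk]; exact dvd_pow_self 2 hk0)
  replace hzo : orderOf z = 2 := (orderOf_coe _).trans hzo
  have hzc : ∀ g : L, g * z = z * g := mem_center_iff.1 (hc hz)
  have hzP : z ∈ (P : Subgroup L) := by
    haveI : (zpowers z).Normal := ⟨fun x hx g => by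
      have hx' := zpowers_le.2 (hc hz) hx
      rwa [mem_center_iff.1 hx' g, mul_inv_cancel_right]⟩
    have hpg : IsPGroup 2 (zpowers z) := IsPGroup.of_card (n := 1) (by rw [Nat.card_zpowers, hzo, pow_one])
    obtain ⟨Q, hQ⟩ := hpg.exists_le_sylow
    obtain ⟨g', hg'⟩ := MulAction.exists_smul_eq L Q P
    rw [← hg', Sylow.coe_subgroup_smul]
    refine ⟨z, hQ (mem_zpowers _), ?_⟩
    show g' * z * g'⁻¹ = z
    rw [hzc, mul_inv_cancel_right]
  letI : CommGroup ↥(P : Subgroup L) := { (inferInstance : Group ↥(P : Subgroup L)) with mul_comm := mul_comm' }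
  have ht := MonoidHom.transfer_eq_pow (MonoidHom.id ↥(P : Subgroup L)) z (fun k g _ => by
    rw [mul_assoc, ← (Commute.pow_right (show Commute g z from hzc g) k).eq, inv_mul_cancel_left])
  have hker : z ∈ (MonoidHom.transfer (MonoidHom.id ↥(P : Subgroup L))).ker :=
    Abelianization.commutator_subset_ker _ (hperf ▸ mem_top _)
  rw [MonoidHom.mem_ker, ht] at hker
  have he : z ^ (P : Subgroup L).index = 1 := congrArg Subtype.val hker
  have := orderOf_dvd_of_pow_eq_one he
  rw [hzo] at this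
  exact P.not_dvd_index this

theorem N_index_odd : Odd (D.N.relIndex D.E) := by
  rw [← Nat.not_even_iff_odd, even_iff_two_dvd]
  exact fun h => D.V_index (h.trans (relIndex_dvd_of_le_left _ D.card_V.2))

/-- An automorphism fixing the Sylow subgroup acts on the centraliser as an inner one. -/
theorem exists_v (h4 : 3 < Fintype.card F) (φ : MulAut G) (k : ℕ) (hφ : φ ^ (2 ^ k) = 1) (hfix : ∀ s ∈ D.SS, φ s = s) :
    ∃ v ∈ D.SS, ∀ c ∈ D.C, φ c = v * c * v⁻¹ := by
  classical
  haveI : Fact (Nat.Prime 2) := ⟨Nat.prime_two⟩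
  haveI : Finite (Matrix.ProjectiveSpecialLinearGroup (Fin 2) F) := Finite.of_equiv _ D.iso.toEquiv
  haveI hsimp := psl_simple_of_odd (F := F) h4
  haveI : IsSimpleGroup D.N := D.iso.isSimpleGroup
  have hφC : ∀ c ∈ D.C, φ c ∈ D.C := fun c hc => D.mem_C.2 (by
    rw [← hfix D.t D.t_mem, ← map_mul, ← map_mul, D.mem_C.1 hc])
  have hperf : ⁅D.N, D.N⁆ = D.N := by
    refine le_antisymm (commutator_le_self _) ?_
    have hc : _root_.commutator D.N = ⊤ := by
      rcases IsSimpleGroup.eq_bot_or_eq_top_of_normal (_root_.commutator D.N) inferInstance with h | h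
      · exfalso
        refine S0810.psl_not_solvable (F := F) (by omega) (Group.isSolvable_of_comm fun a b => ?_)
        have := (Subgroup.commutator_mem_commutator (mem_top (D.iso.symm a)) (mem_top (D.iso.symm b)))
        rw [← _root_.commutator_def, h, mem_bot, commutatorElement_eq_one_iff_mul_comm, ← map_mul, ← map_mul] at this
        exact D.iso.symm.injective this
      · exact h
    intro x hx
    have h := mem_map_of_mem D.N.subtype (hc ▸ mem_top (⟨x, hx⟩ : D.N) : (⟨x, hx⟩ : D.N) ∈ _root_.commutator D.N)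
    rwa [_root_.commutator_def, map_commutator, ← MonoidHom.range_eq_map, range_subtype] at h
  set M := D.N.map φ.toMonoidHom
  have hME : M ≤ D.E := by
    show D.N.map φ.toMonoidHom ≤ D.E
    rw [← hperf, map_commutator, commutator_le]
    rintro _ ⟨a, ha, rfl⟩ _ ⟨b, hb, rfl⟩
    have hC := fun (y : G) (hy : y ∈ D.N) => hφC y (D.E_le_C (D.N_le hy))
    have key : ∀ p q : G, p ∈ D.C → q ∈ D.C → ⁅p, q⁆ ∈ D.E := by
      intro p q hp hq
      have ht : ∀ w ∈ D.C, D.t * w * D.t⁻¹ = w := fun w hw => by rw [← D.mem_C.1 hw, mul_inv_cancel_right]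
      have ep : ∃ p', p' ∈ D.E ∧ (p = p' ∨ p = D.t * p') := (D.split hp).elim (fun h => ⟨p, h, .inl rfl⟩)
        fun h => ⟨D.t * p, h, .inr (by rw [← mul_assoc, D.sq_t, one_mul])⟩
      have eq' : ∃ q', q' ∈ D.E ∧ (q = q' ∨ q = D.t * q') := (D.split hq).elim (fun h => ⟨q, h, .inl rfl⟩)
        fun h => ⟨D.t * q, h, .inr (by rw [← mul_assoc, D.sq_t, one_mul])⟩
      obtain ⟨p', hp', ep⟩ := ep
      obtain ⟨q', hq', eq'⟩ := eq'
      have tp := D.t_comm hp'
      have tq := D.t_comm hq'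
      have hti : D.t⁻¹ = D.t := inv_eq_of_mul_eq_one_right D.sq_t
      have : ⁅p, q⁆ = ⁅p', q'⁆ := by
        rcases ep with rfl | rfl <;> rcases eq' with rfl | rfl <;> simp only [commutatorElement_def]
        · rw [← tq, mul_inv_rev, hti]
          calc p * (q' * D.t) * p⁻¹ * (D.t * q'⁻¹) = p * q' * (D.t * p⁻¹) * D.t * q'⁻¹ := by group
            _ = p * q' * p⁻¹ * (D.t * D.t) * q'⁻¹ := by rw [← D.t_comm (inv_mem hp')]; group
            _ = _ := by rw [D.sq_t, mul_one]
        · rw [mul_inv_rev, hti]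
          calc D.t * p' * q * (p'⁻¹ * D.t) * q⁻¹ = D.t * (p' * q * p'⁻¹) * (D.t * q⁻¹) := by group
            _ = D.t * (p' * q * p'⁻¹ * q⁻¹) * D.t := by rw [← D.t_comm (inv_mem hq')]; group
            _ = (p' * q * p'⁻¹ * q⁻¹) * (D.t * D.t) := by
              rw [← D.t_comm (mul_mem (mul_mem (mul_mem hp' hq') (inv_mem hp')) (inv_mem hq'))]; group
            _ = _ := by rw [D.sq_t, mul_one]
        · rw [← tp, ← tq, mul_inv_rev, mul_inv_rev, hti]
          calc p' * D.t * (q' * D.t) * (D.t * p'⁻¹) * (D.t * q'⁻¹)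
              = p' * (D.t * q') * (D.t * D.t) * p'⁻¹ * D.t * q'⁻¹ := by group
            _ = p' * q' * (D.t * p'⁻¹) * D.t * q'⁻¹ := by rw [← tq, D.sq_t]; group
            _ = p' * q' * p'⁻¹ * (D.t * D.t) * q'⁻¹ := by rw [← D.t_comm (inv_mem hp')]; group
            _ = _ := by rw [D.sq_t, mul_one]
      rw [this, commutatorElement_def]
      exact mul_mem (mul_mem (mul_mem hp' hq') (inv_mem hp')) (inv_mem hq')
    exact key _ _ (hC a ha) (hC b hb)
  obtain ⟨x0, hx0, hx01⟩ : ∃ x ∈ D.V, x ≠ 1 := by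
    obtain ⟨r, -, -, x, hx, hne⟩ := D.exists_rho
    exact ⟨x, hx, fun e => hne (by rw [e]; group)⟩
  have hMN : M = D.N := by
    haveI : IsSimpleGroup M := (φ.subgroupMap D.N).symm.isSimpleGroup
    haveI : (D.N.subgroupOf M).Normal := ⟨fun n hn y => mem_subgroupOf.2 (D.N_conj y (hME y.2) n (mem_subgroupOf.1 hn))⟩
    refine eq_of_le_of_card_ge ?_ (le_of_eq (card_map_of_injective φ.injective).symm)
    rcases IsSimpleGroup.eq_bot_or_eq_top_of_normal _ (inferInstance : (D.N.subgroupOf M).Normal) with h | h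
    · exfalso
      have hxM : x0 ∈ M := ⟨x0, D.card_V.2 hx0, hfix x0 (D.V_le_S hx0)⟩
      have : (⟨x0, hxM⟩ : M) ∈ D.N.subgroupOf M := mem_subgroupOf.2 (D.card_V.2 hx0)
      rw [h, mem_bot] at this
      exact hx01 (congrArg Subtype.val this)
    · exact subgroupOf_eq_top.1 h
  let ψ : MulAut D.N := (φ.subgroupMap D.N).trans (MulEquiv.subgroupCongr hMN)
  have hψ : ∀ (i : ℕ) (n : D.N), (((ψ ^ i) n : D.N) : G) = (φ ^ i) (n : G) := by
    intro i
    induction i with
    | zero => intro n; rfl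
    | succ i ih => intro n; rw [pow_succ', pow_succ', MulAut.mul_apply, MulAut.mul_apply, ← ih]; rfl
  set α : MulAut (Matrix.ProjectiveSpecialLinearGroup (Fin 2) F) := MulAut.congr D.iso ψ
  set W := (D.V.subgroupOf D.N).map D.iso.toMonoidHom
  set Wc := W.map (MulAut.conj : Matrix.ProjectiveSpecialLinearGroup (Fin 2) F →* _)
  have hci : Function.Injective (MulAut.conj : Matrix.ProjectiveSpecialLinearGroup (Fin 2) F →* _) := by
    rw [injective_iff_map_eq_one]
    intro a ha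
    have hz : a ∈ center (Matrix.ProjectiveSpecialLinearGroup (Fin 2) F) := mem_center_iff.2 fun b => by
      have := DFunLike.congr_fun ha b
      rw [MulAut.conj_apply, MulAut.one_apply] at this
      exact (mul_inv_eq_iff_eq_mul.1 this).symm
    rcases IsSimpleGroup.eq_bot_or_eq_top_of_normal (center (Matrix.ProjectiveSpecialLinearGroup (Fin 2) F))
      inferInstance with h | h
    · rw [h] at hz; exact mem_bot.1 hz
    · exact absurd (Group.isSolvable_of_comm fun a b => (mem_center_iff.1 (h ▸ mem_top a) b).symm)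
        (S0810.psl_not_solvable (F := F) (by omega))
  have hWc : Nat.card Wc = 4 := by
    rw [card_map_of_injective hci, card_map_of_injective D.iso.injective,
      Nat.card_congr (subgroupOfEquivOfLe D.card_V.2).toEquiv, D.card_V.1]
  have hαW : ∀ w ∈ W, α w = w := by
    rintro _ ⟨n, hn, rfl⟩
    show D.iso (ψ (D.iso.symm (D.iso n))) = D.iso n
    rw [D.iso.symm_apply_apply]
    exact congrArg D.iso (Subtype.ext (hfix n (D.V_le_S (mem_subgroupOf.1 hn))))
  have hαc : ∀ b ∈ Wc, α * b = b * α := by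
    rintro _ ⟨w, hw, rfl⟩
    refine MulEquiv.ext fun y => ?_
    rw [MulAut.mul_apply, MulAut.mul_apply, MulAut.conj_apply, MulAut.conj_apply, map_mul, map_mul, map_inv, hαW w hw]
  have hWp : IsPGroup 2 Wc := IsPGroup.of_card (n := 2) hWc
  have hαp : IsPGroup 2 (zpowers α) := by
    have h1 : α ^ (2 ^ k) = 1 := by
      rw [← map_pow, show ψ ^ (2 ^ k) = 1 from MulEquiv.ext fun n => Subtype.ext (by rw [hψ, hφ]; rfl), map_one]
    obtain ⟨j, -, hj⟩ := (Nat.dvd_prime_pow Nat.prime_two).1 (orderOf_dvd_of_pow_eq_one h1)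
    exact IsPGroup.of_card (n := j) (by rw [Nat.card_zpowers, hj])
  set B := zpowers α ⊔ Wc
  have hBp : IsPGroup 2 B := hαp.to_sup_of_normal_right' hWp (zpowers_le.2 (mem_normalizer_iff.2 fun b =>
    ⟨fun hb => by rwa [hαc b hb, mul_inv_cancel_right], fun hb => by
      have e : b = α * b * α⁻¹ := by
        calc b = α⁻¹ * ((α * b * α⁻¹) * α) := by group
          _ = α⁻¹ * (α * (α * b * α⁻¹)) := by rw [hαc _ hb]
          _ = α * b * α⁻¹ := inv_mul_cancel_left _ _
      rwa [← e] at hb⟩))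
  have hBab : ∀ x ∈ B, ∀ y ∈ B, x * y = y * x := by
    have hcl : B = closure (insert α (Wc : Set _)) := by
      rw [Set.insert_eq, Subgroup.closure_union, Subgroup.closure_eq, ← zpowers_eq_closure]
    haveI : IsMulCommutative ↥(closure (insert α (Wc : Set _))) := isMulCommutative_closure (fun a ha b hb => by
      rcases ha with rfl | ⟨w, hw, rfl⟩ <;> rcases hb with rfl | ⟨w', hw', rfl⟩
      · rfl
      · exact hαc _ ⟨w', hw', rfl⟩
      · exact (hαc _ ⟨w, hw, rfl⟩).symm
      · rw [← map_mul, ← map_mul]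
        refine congrArg _ ?_
        obtain ⟨n, hn, rfl⟩ := hw
        obtain ⟨n', hn', rfl⟩ := hw'
        rw [← map_mul, ← map_mul]
        exact congrArg _ (Subtype.ext (D.S_comm (D.V_le_S (mem_subgroupOf.1 hn)) (D.V_le_S (mem_subgroupOf.1 hn')))))
    intro x hx y hy
    exact congrArg Subtype.val (mul_comm' (⟨x, hcl ▸ hx⟩ : ↥(closure (insert α (Wc : Set _)))) ⟨y, hcl ▸ hy⟩)
  have hB := abelian_two_card D.hFo D.h35 B hBp hBab
  have hBW : B = Wc := (eq_of_le_of_card_ge (le_sup_right : Wc ≤ B) (by rw [hWc]; exact hB)).symm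
  obtain ⟨_, ⟨v, hv, rfl⟩, hvα⟩ : α ∈ Wc := hBW ▸ mem_sup_left (mem_zpowers α)
  have hvV : (v : G) ∈ D.V := mem_subgroupOf.1 hv
  have hN : ∀ n ∈ D.N, φ n = (v : G) * n * (v : G)⁻¹ := by
    intro n hn
    have h := DFunLike.congr_fun hvα (D.iso ⟨n, hn⟩)
    change D.iso v * D.iso ⟨n, hn⟩ * (D.iso v)⁻¹ = D.iso (ψ (D.iso.symm (D.iso ⟨n, hn⟩))) at h
    rw [D.iso.symm_apply_apply, ← map_inv, ← map_mul, ← map_mul] at h
    exact (congrArg Subtype.val (D.iso.injective h)).symm
  refine ⟨v, D.V_le_S hvV, fun c hc => ?_⟩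
  -- extend from the component
  have hvC : (v : G) ∈ D.C := D.S_le_C (D.V_le_S hvV)
  have hE : ∀ e ∈ D.E, φ e = (v : G) * e * (v : G)⁻¹ := by
    intro e he
    set e' := (v : G)⁻¹ * φ e * (v : G)
    suffices h : e' = e by
      calc φ e = (v : G) * e' * (v : G)⁻¹ := by simp only [e']; group
        _ = (v : G) * e * (v : G)⁻¹ := by rw [h]
    have he' : e' ∈ D.C := mul_mem (mul_mem (inv_mem hvC) (hφC e (D.E_le_C he))) hvC
    have hact : ∀ n ∈ D.N, e' * n * e'⁻¹ = e * n * e⁻¹ := by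
      intro n hn
      have hn' := D.N_conj e he n hn
      have e1 : φ (e * n * e⁻¹) = (v : G) * (e * n * e⁻¹) * (v : G)⁻¹ := hN _ hn'
      rw [map_mul, map_mul, map_inv, hN n hn] at e1
      calc e' * n * e'⁻¹ = (v : G)⁻¹ * (φ e * ((v : G) * n * (v : G)⁻¹) * (φ e)⁻¹) * (v : G) := by
            simp only [e']; group
        _ = e * n * e⁻¹ := by rw [e1]; group
    rcases D.split he' with h | h
    · have := D.faithful (e⁻¹ * e') (mul_mem (inv_mem he) h) fun n hn => by
        calc e⁻¹ * e' * n = e⁻¹ * (e' * n * e'⁻¹) * e' := by group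
          _ = n * (e⁻¹ * e') := by rw [hact n hn]; group
      exact (inv_mul_eq_one.1 this).symm
    · exfalso
      have hte : D.t * e' = e := by
        have := D.faithful (e⁻¹ * (D.t * e')) (mul_mem (inv_mem he) h) fun n hn => by
          have hnt := D.t_comm (D.N_le (D.N_conj e he n hn))
          calc e⁻¹ * (D.t * e') * n = e⁻¹ * (D.t * (e' * n * e'⁻¹)) * e' := by group
            _ = n * (e⁻¹ * (D.t * e')) := by rw [hact n hn, ← hnt]; group
        exact (inv_mul_eq_one.1 this).symm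
      have hee : e' = D.t * e := by rw [← hte, ← mul_assoc, D.sq_t, one_mul]
      set m := D.N.relIndex D.E
      haveI : (D.N.subgroupOf D.E).Normal := ⟨fun n hn e => mem_subgroupOf.2 (D.N_conj e e.2 n (mem_subgroupOf.1 hn))⟩
      have hem : e ^ m ∈ D.N := mem_subgroupOf.1 (pow_index_mem (D.N.subgroupOf D.E) ⟨e, he⟩)
      have h1 := hN _ hem
      rw [map_pow, show φ e = (v : G) * e' * (v : G)⁻¹ by simp only [e']; group, conj_pow, hee,
        (show Commute D.t e from (D.t_comm he).symm).mul_pow] at h1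
      have h2 := mul_eq_right.1 (mul_left_cancel (mul_right_cancel h1))
      obtain ⟨l, hl⟩ := D.N_index_odd
      rw [show m = 2 * l + 1 from hl, pow_succ, pow_mul, pow_two, D.sq_t, one_pow, one_mul] at h2
      exact D.t_ne h2
  rcases D.split hc with h | h
  · exact hE c h
  · have e := hE _ h
    rw [map_mul, hfix D.t D.t_mem] at e
    have hvt : D.t * (v : G) = (v : G) * D.t := (D.mem_C.1 hvC).symm
    calc φ c = D.t * (D.t * φ c) := by rw [← mul_assoc, D.sq_t, one_mul]
      _ = (D.t * (v : G)) * D.t * c * (v : G)⁻¹ := by rw [e]; group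
      _ = (v : G) * (D.t * D.t) * c * (v : G)⁻¹ := by rw [hvt]; group
      _ = _ := by rw [D.sq_t, mul_one]

/-- An automorphism of 2-power order fixing the Sylow subgroup is inner. -/
theorem inner (D : RCtx G F) (hmax : IsCoatom D.C) (h4 : 3 < Fintype.card F) (φ : MulAut G) (k : ℕ) (hφ : φ ^ (2 ^ k) = 1) (hfix : ∀ s ∈ D.SS, φ s = s) :
    ∃ g : G, ∀ x : G, φ x = g * x * g⁻¹ := by
  classical
  haveI : Fact (Nat.Prime 2) := ⟨Nat.prime_two⟩
  obtain ⟨v, hv, hC⟩ := D.exists_v h4 φ k hφ hfix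
  obtain ⟨n, hn, hfree, hnorm⟩ := D.exists_n
  have hCS : ∀ c ∈ centralizer (D.SS : Set G), φ c = c := fun c hc => by
    rw [hC c (D.mem_C.2 (mem_centralizer_iff.1 hc D.t D.t_mem).symm), mem_centralizer_iff.1 hc v hv,
      mul_inv_cancel_right]
  set c := φ n * n⁻¹ with hc
  have hcC : c ∈ centralizer (D.SS : Set G) := mem_centralizer_iff.2 fun s hs => by
    have hs' : n⁻¹ * s * n ∈ D.SS := (mem_normalizer_iff''.1 hn s).1 hs
    have h : φ n * (n⁻¹ * s * n) * (φ n)⁻¹ = s := by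
      nth_rewrite 1 [← hfix _ hs']
      rw [← map_inv, ← map_mul, ← map_mul, show n * (n⁻¹ * s * n) * n⁻¹ = s by group]
      exact hfix s hs
    calc s * c = φ n * (n⁻¹ * s * n) * (φ n)⁻¹ * (φ n * n⁻¹) := by rw [h, hc]
      _ = c * s := by rw [hc]; group
  have hpow : ∀ i : ℕ, (φ ^ i) n = c ^ i * n := by
    intro i
    induction i with
    | zero => simp
    | succ i ih =>
      rw [pow_succ', MulAut.mul_apply, ih, map_mul, map_pow, hCS c hcC, show φ n = c * n by rw [hc]; group,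
        ← mul_assoc, ← pow_succ]
  have hck : c ^ (2 ^ k) = 1 := by
    have := hpow (2 ^ k)
    rw [hφ, MulAut.one_apply] at this
    exact mul_eq_right.1 this.symm
  have hcS : c ∈ D.SS := by
    obtain ⟨j, -, hj⟩ := (Nat.dvd_prime_pow Nat.prime_two).1 (orderOf_dvd_of_pow_eq_one hck)
    have hzp : IsPGroup 2 (zpowers c) := IsPGroup.of_card (n := j) (by rw [Nat.card_zpowers, hj])
    have hsup : IsPGroup 2 ↥(zpowers c ⊔ D.SS) := hzp.to_sup_of_normal_right' D.S.2
      (zpowers_le.2 (centralizer_le_normalizer _ hcC))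
    have := D.S.3 hsup le_sup_right
    show c ∈ (D.S : Subgroup G)
    rw [← this]
    exact mem_sup_left (mem_zpowers c)
  -- absorb it
  let T : D.SS → D.SS := fun u => ⟨(u : G) * (n * u * n⁻¹)⁻¹, mul_mem u.2 (inv_mem (D.conj_mem_S hn u.2))⟩
  have hT : Function.Bijective T := Finite.injective_iff_bijective.1 fun u u' e => by
    have e : (u : G) * (n * u * n⁻¹)⁻¹ = (u' : G) * (n * u' * n⁻¹)⁻¹ := congrArg Subtype.val e
    by_contra hne
    refine hfree 1 (by norm_num) ((u' : G)⁻¹ * u) (mul_mem (inv_mem u'.2) u.2) (fun h => hne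
      (Subtype.ext (inv_mul_eq_one.1 h).symm)) ?_
    rw [pow_one]
    calc n * ((u' : G)⁻¹ * u) * n⁻¹ = (n * u' * n⁻¹)⁻¹ * (n * u * n⁻¹) := by group
      _ = (u' : G)⁻¹ * ((u' : G) * (n * u' * n⁻¹)⁻¹) * (n * u * n⁻¹) := by group
      _ = (u' : G)⁻¹ * ((u : G) * (n * u * n⁻¹)⁻¹) * (n * u * n⁻¹) := by rw [e]
      _ = _ := by group
  obtain ⟨⟨u, hu⟩, hTu⟩ := hT.2 ⟨c, hcS⟩
  have hTu : u * (n * u * n⁻¹)⁻¹ = c := congrArg Subtype.val hTu
  refine ⟨u, fun x => ?_⟩
  set χ : MulAut G := (MulAut.conj u)⁻¹ * φ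
  have hχa : ∀ y, χ y = u⁻¹ * φ y * u := fun y => by
    show (MulAut.conj u)⁻¹ (φ y) = _
    rw [MulAut.conj_inv_apply]
  have hχn : χ n = n := by
    rw [hχa, show φ n = c * n by rw [hc]; group, ← hTu]
    group
  set w := u⁻¹ * v
  have hw : w ∈ D.SS := mul_mem (inv_mem hu) hv
  have hχC : ∀ y ∈ D.C, χ y = w * y * w⁻¹ := fun y hy => by
    rw [hχa, hC y hy]; simp only [w]; group
  -- `w` centralises the centraliser
  obtain ⟨r, hrE, hrN, x0, hx0, hne⟩ := D.exists_rho
  have hrC := D.E_le_C hrE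
  obtain ⟨j, hj⟩ := hnorm r hrN
  have hfix' : ∀ s ∈ D.SS, χ s = s := fun s hs => by
    rw [hχa, hfix s hs, mul_assoc, D.S_comm hs hu, inv_mul_cancel_left]
  have hwr : χ r = r := by
    set c' := w * (r * w⁻¹ * r⁻¹)
    have hc' : c' ∈ D.SS := mul_mem hw (D.conj_mem_S hrN (inv_mem hw))
    have hχr : χ r = c' * r := by rw [hχC r hrC]; simp only [c']; group
    set m := r * n * r⁻¹ * (n ^ j)⁻¹
    have hmC : m ∈ centralizer (D.SS : Set G) := mem_centralizer_iff.2 fun s hs => by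
      have h := hj ((n ^ j)⁻¹ * s * n ^ j) ((mem_normalizer_iff''.1 (pow_mem hn j) s).1 hs)
      rw [show n ^ j * ((n ^ j)⁻¹ * s * n ^ j) * (n ^ j)⁻¹ = s by group] at h
      calc s * m = r * (n * (r⁻¹ * ((n ^ j)⁻¹ * s * n ^ j) * r) * n⁻¹) * r⁻¹ * m := by rw [h]
        _ = m * s := by simp only [m]; group
    have hm' : χ m = m := by
      rw [hχC m (D.mem_C.2 (mem_centralizer_iff.1 hmC D.t D.t_mem).symm),
        mem_centralizer_iff.1 hmC w hw, mul_inv_cancel_right]
    have hrn : r * n * r⁻¹ = m * n ^ j := by simp only [m]; group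
    have hfixrn : χ (r * n * r⁻¹) = r * n * r⁻¹ := by rw [hrn, map_mul, map_pow, hχn, hm']
    rw [map_mul, map_mul, map_inv, hχr, hχn] at hfixrn
    have hc1 : c' = 1 := by
      by_contra hc1
      have hd : ¬ 7 ∣ 1 := by norm_num
      have hs : r⁻¹ * c' * r ∈ D.SS := (mem_normalizer_iff''.1 hrN c').1 hc'
      refine hfree 1 hd (r⁻¹ * c' * r) hs (fun e => hc1 (by
        calc c' = r * (r⁻¹ * c' * r) * r⁻¹ := by group
          _ = 1 := by rw [e]; group)) ?_
      rw [pow_one, mul_inv_eq_iff_eq_mul]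
      calc n * (r⁻¹ * c' * r) = r⁻¹ * (r * n * r⁻¹) * c' * r := by group
        _ = r⁻¹ * (c' * r * n * (c' * r)⁻¹) * c' * r := by rw [hfixrn]
        _ = r⁻¹ * c' * r * n := by group
    rw [hχr, hc1, one_mul]
  have hwC : ∀ y ∈ D.C, w * y = y * w := by
    intro y hy
    rcases D.S_split hw with h | h
    · by_cases h1 : w = 1
      · rw [h1]; simp
      exfalso
      have := D.eq_one_of_fix (h := D.θ ⟨r, hrN⟩) ⟨_, rfl⟩
        (by rw [θ_apply]; exact mul_inv_eq_iff_eq_mul.2 (D.t_comm hrE)) (x := ⟨w, hw⟩) h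
        (fun e => h1 (congrArg Subtype.val e)) (Subtype.ext (by
          rw [θ_apply, mul_inv_eq_iff_eq_mul]
          rw [hχC r hrC] at hwr
          exact (mul_inv_eq_iff_eq_mul.1 hwr).symm))
      exact hne (congrArg (fun a : MulAut D.SS => ((a ⟨x0, D.V_le_S hx0⟩ : D.SS) : G)) this)
    · by_cases h1 : D.t * w = 1
      · rw [show w = D.t by rw [← inv_eq_of_mul_eq_one_right h1, inv_eq_of_mul_eq_one_right D.sq_t]]
        exact (D.mem_C.1 hy).symm
      exfalso
      have := D.eq_one_of_fix (h := D.θ ⟨r, hrN⟩) ⟨_, rfl⟩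
        (by rw [θ_apply]; exact mul_inv_eq_iff_eq_mul.2 (D.t_comm hrE)) (x := ⟨D.t * w, mul_mem D.t_mem hw⟩) h
        (fun e => h1 (congrArg Subtype.val e)) (Subtype.ext (by
          rw [θ_apply, mul_inv_eq_iff_eq_mul]
          rw [hχC r hrC] at hwr
          show r * (D.t * w) = D.t * w * r
          rw [← mul_assoc, D.t_comm hrE, mul_assoc, mul_assoc, ← mul_inv_eq_iff_eq_mul.1 hwr]))
      exact hne (congrArg (fun a : MulAut D.SS => ((a ⟨x0, D.V_le_S hx0⟩ : D.SS) : G)) this)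
  have hall : χ x = x := by
    let K : Subgroup G :=
      { carrier := {y | χ y = y}
        one_mem' := map_one χ
        mul_mem' := fun {a b} ha hb => by simp only [Set.mem_setOf_eq] at *; rw [map_mul, ha, hb]
        inv_mem' := fun {a} ha => by simp only [Set.mem_setOf_eq] at *; rw [map_inv, ha] }
    have hK : D.C < K := by
      refine lt_of_le_of_ne (fun y hy => show χ y = y by rw [hχC y hy, hwC y hy, mul_inv_cancel_right]) fun e => ?_
      have hnC : n ∈ D.C := e ▸ (show n ∈ K from hχn)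
      refine hfree 1 (by norm_num) D.t D.t_mem D.t_ne ?_
      rw [pow_one]
      exact mul_inv_eq_iff_eq_mul.2 (D.mem_C.1 hnC)
    exact (hmax.2 K hK ▸ mem_top x : x ∈ K)
  rw [hχa] at hall
  calc φ x = u * (u⁻¹ * φ x * u) * u⁻¹ := by group
    _ = u * x * u⁻¹ := by rw [hall]

end RCtx

end Cfsg.Agent.Lead.JankoRee
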