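import Cfsg.Prelude.Def_TwoFusion
import Cfsg.Agent.S0276
import Cfsg.Agent.Lib.Lead.JankoRee.Aut

/-!
# A simple group with abelian Sylow 2-subgroups and an involution centraliser `⟨t⟩ × E`, `PSL₂(q) ⊴ E`
-/

set_option autoImplicit false
set_option linter.style.haveILetI false

namespace Cfsg.Agent.Lead.JankoRee

open Subgroup

universe u v

variable {G : Type u} [Group G] [Finite G]

theorem card_mul_relIndex' {K M : Subgroup G} (h : K ≤ M) : Nat.card K * K.relIndex M = Nat.card M := by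
  rw [← Nat.card_congr (subgroupOfEquivOfLe h).toEquiv]
  exact (K.subgroupOf M).card_mul_index

/-- The configuration. -/
structure RCtx (G : Type u) [Group G] [Finite G] (F : Type v) [Field F] [Fintype F] where
  hG : ¬ IsMulCommutative G
  hab : ∀ S : Sylow 2 G, IsMulCommutative ↥(S : Subgroup G)
  t : G
  ht : orderOf t = 2
  hne : centralizer ({t} : Set G) ≠ ⊤
  E : Subgroup G
  hE : Cfsg.IsInternalDirectProduct (zpowers t) E (centralizer ({t} : Set G))
  hFo : Odd (Fintype.card F)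
  hF3 : 3 ≤ Fintype.card F
  N : Subgroup G
  N_le : N ≤ E
  N_conj : ∀ e ∈ E, ∀ n ∈ N, e * n * e⁻¹ ∈ N
  iso : N ≃* Matrix.ProjectiveSpecialLinearGroup (Fin 2) F
  faithful : ∀ e ∈ E, (∀ n ∈ N, e * n = n * e) → e = 1
  S : Sylow 2 G
  t_mem : t ∈ (S : Subgroup G)

variable {F : Type v} [Field F] [Fintype F]

namespace RCtx

variable (D : RCtx G F)

/-- The centraliser. -/
abbrev C : Subgroup G := centralizer ({D.t} : Set G)

theorem sq_t : D.t * D.t = 1 := by rw [← pow_two, ← D.ht, pow_orderOf_eq_one]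

theorem t_ne : D.t ≠ 1 := fun h => by
  have := D.ht
  rw [h, orderOf_one] at this
  omega

theorem comm (D : RCtx G F) {P : Subgroup G} (hP : IsPGroup 2 P) {x y : G} (hx : x ∈ P) (hy : y ∈ P) : x * y = y * x := by
  obtain ⟨S, hS⟩ := hP.exists_le_sylow
  haveI := D.hab S
  exact congrArg Subtype.val (mul_comm' (⟨x, hS hx⟩ : (S : Subgroup G)) ⟨y, hS hy⟩)

theorem S_comm {x y : G} (hx : x ∈ (D.S : Subgroup G)) (hy : y ∈ (D.S : Subgroup G)) : x * y = y * x :=
  D.comm D.S.2 hx hy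

theorem mem_C {x : G} : x ∈ D.C ↔ x * D.t = D.t * x := mem_centralizer_singleton_iff

theorem S_le_C : (D.S : Subgroup G) ≤ D.C := fun _ hx => D.mem_C.2 (D.S_comm hx D.t_mem)

theorem E_le_C : D.E ≤ D.C := D.hE.2.1

theorem t_comm {e : G} (he : e ∈ D.E) : e * D.t = D.t * e := D.mem_C.1 (D.E_le_C he)

theorem t_not_mem : D.t ∉ D.E := fun h => D.t_ne <| by
  have : D.t ∈ zpowers D.t ⊓ D.E := ⟨mem_zpowers _, h⟩
  rwa [D.hE.2.2.2.1, mem_bot] at this

theorem split {c : G} (hc : c ∈ D.C) : c ∈ D.E ∨ D.t * c ∈ D.E := by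
  let K : Subgroup G :=
    { carrier := {c | c ∈ D.C ∧ (c ∈ D.E ∨ D.t * c ∈ D.E)}
      one_mem' := ⟨one_mem _, Or.inl (one_mem _)⟩
      mul_mem' := by
        rintro a b ⟨haC, ha⟩ ⟨hbC, hb⟩
        refine ⟨mul_mem haC hbC, ?_⟩
        have e1 : a * D.t = D.t * a := D.mem_C.1 haC
        rcases ha with ha | ha <;> rcases hb with hb | hb
        · exact Or.inl (mul_mem ha hb)
        · exact Or.inr (by rw [← mul_assoc, ← e1, mul_assoc]; exact mul_mem ha hb)
        · exact Or.inr (by rw [← mul_assoc]; exact mul_mem ha hb)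
        · refine Or.inl ?_
          have := mul_mem ha hb
          rwa [← e1, show a * D.t * (D.t * b) = a * (D.t * D.t) * b by group, D.sq_t, mul_one] at this
      inv_mem' := by
        rintro a ⟨haC, ha⟩
        refine ⟨inv_mem haC, ha.imp inv_mem fun h => ?_⟩
        have := inv_mem h
        rwa [mul_inv_rev, inv_eq_of_mul_eq_one_right D.sq_t, D.mem_C.1 (inv_mem haC)] at this }
  have hle : zpowers D.t ⊔ D.E ≤ K := sup_le (zpowers_le.2 ⟨D.mem_C.2 rfl, Or.inr (by rw [D.sq_t]; exact one_mem _)⟩)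
    fun e he => ⟨D.E_le_C he, Or.inl he⟩
  rw [D.hE.2.2.2.2] at hle
  exact (hle hc).2

/-- `V`, the Sylow subgroup of the component. -/
def V : Subgroup G := (D.S : Subgroup G) ⊓ D.E

theorem V_le_S : D.V ≤ (D.S : Subgroup G) := inf_le_left

theorem V_le_E : D.V ≤ D.E := inf_le_right

theorem S_split {s : G} (hs : s ∈ (D.S : Subgroup G)) : s ∈ D.V ∨ D.t * s ∈ D.V :=
  (D.split (D.S_le_C hs)).imp (fun h => ⟨hs, h⟩) fun h => ⟨mul_mem D.t_mem hs, h⟩

theorem card_double (K M : Subgroup G) (hKM : K ≤ M) (htM : D.t ∈ M) (htK : D.t ∉ K)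
    (h : ∀ c ∈ M, c ∈ K ∨ D.t * c ∈ K) : Nat.card M = 2 * Nat.card K := by
  have hidx : (K.subgroupOf M).index = 2 := by
    refine index_eq_two_iff'.2 ⟨⟨D.t, htM⟩, fun b => ?_⟩
    rcases h b b.2 with hb | hb
    · refine Or.inr ⟨mem_subgroupOf.2 hb, fun hn => htK ?_⟩
      have := mul_mem (mem_subgroupOf.1 hn) (inv_mem hb)
      rwa [coe_mul, mul_inv_cancel_right] at this
    · refine Or.inl ⟨mem_subgroupOf.2 hb, fun hn => htK ?_⟩
      have := mul_mem hb (inv_mem (mem_subgroupOf.1 hn))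
      rwa [mul_inv_cancel_right] at this
  rw [← (K.subgroupOf M).card_mul_index, hidx, Nat.card_congr (subgroupOfEquivOfLe hKM).toEquiv, mul_comm]

theorem card_S_eq : Nat.card (D.S : Subgroup G) = 2 * Nat.card D.V :=
  D.card_double _ _ inf_le_left D.t_mem (fun h => D.t_not_mem h.2) fun _ => D.S_split

theorem card_C_eq : Nat.card D.C = 2 * Nat.card D.E :=
  D.card_double _ _ D.E_le_C (D.mem_C.2 rfl) D.t_not_mem fun _ => D.split

theorem V_index : ¬ 2 ∣ D.V.relIndex D.E := by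
  intro h
  have h1 : Nat.card D.V * D.V.relIndex D.E = Nat.card D.E := card_mul_relIndex' D.V_le_E
  have h2 : Nat.card (D.S : Subgroup G) * (D.S : Subgroup G).relIndex D.C = Nat.card D.C :=
    card_mul_relIndex' D.S_le_C
  rw [D.card_S_eq, D.card_C_eq, mul_assoc] at h2
  have h3 : (D.S : Subgroup G).relIndex D.C = D.V.relIndex D.E := by
    have := Nat.eq_of_mul_eq_mul_left two_pos h2
    rw [← h1] at this
    exact Nat.eq_of_mul_eq_mul_left Nat.card_pos this
  exact D.S.not_dvd_index ((h3 ▸ h).trans (relIndex_dvd_index_of_le D.S_le_C))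

theorem N_comm_two (Q : Subgroup ↥D.N) (hQ : IsPGroup 2 Q) {x y : ↥D.N} (hx : x ∈ Q) (hy : y ∈ Q) :
    x * y = y * x :=
  Subtype.ext (D.comm (hQ.map D.N.subtype) ⟨x, hx, rfl⟩ ⟨y, hy, rfl⟩)

theorem h35 (D : RCtx G F) : Fintype.card F % 8 = 3 ∨ Fintype.card F % 8 = 5 := by
  haveI : Fact (Nat.Prime 2) := ⟨Nat.prime_two⟩
  rcases D.hF3.eq_or_lt with h3 | h3
  · exact Or.inl (by rw [← h3])
  refine mod_eight D.hFo h3 fun P => ⟨⟨fun a b => Subtype.ext ?_⟩⟩
  have h := D.N_comm_two _ (P.2.map D.iso.symm.toMonoidHom) ⟨a, a.2, rfl⟩ ⟨b, b.2, rfl⟩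
  have := congrArg D.iso h
  simpa using this

/-- The action on the component. -/
noncomputable def act : D.E →* MulAut (Matrix.ProjectiveSpecialLinearGroup (Fin 2) F) :=
  haveI : (D.N.subgroupOf D.E).Normal := ⟨fun n hn e => mem_subgroupOf.2 (D.N_conj e e.2 n (mem_subgroupOf.1 hn))⟩
  (MulAut.congr ((subgroupOfEquivOfLe D.N_le).trans D.iso)).toMonoidHom.comp
    (MulAut.conjNormal (H := D.N.subgroupOf D.E))

theorem act_apply (e : D.E) (n : D.N) :
    D.act e (D.iso n) = D.iso ⟨(e : G) * n * (e : G)⁻¹, D.N_conj e e.2 n n.2⟩ := by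
  haveI : (D.N.subgroupOf D.E).Normal := ⟨fun n hn e => mem_subgroupOf.2 (D.N_conj e e.2 n (mem_subgroupOf.1 hn))⟩
  show D.iso (subgroupOfEquivOfLe D.N_le (MulAut.conjNormal e
    ((subgroupOfEquivOfLe D.N_le).symm (D.iso.symm (D.iso n))))) = _
  rw [D.iso.symm_apply_apply]
  rfl

theorem act_injective : Function.Injective D.act := by
  rw [injective_iff_map_eq_one]
  intro e he
  refine Subtype.ext (D.faithful e e.2 fun n hn => ?_)
  have := D.act_apply e ⟨n, hn⟩
  rw [he, MulAut.one_apply] at this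
  have h := congrArg Subtype.val (D.iso.injective this)
  exact (mul_inv_eq_iff_eq_mul.1 h.symm)

theorem card_V : Nat.card D.V = 4 ∧ D.V ≤ D.N := by
  haveI : Fact (Nat.Prime 2) := ⟨Nat.prime_two⟩
  haveI : Finite (Matrix.ProjectiveSpecialLinearGroup (Fin 2) F) := Finite.of_equiv _ D.iso.toEquiv
  have hVp : IsPGroup 2 D.V := D.S.2.to_le D.V_le_S
  have hle4 : Nat.card D.V ≤ 4 := by
    set B := (D.V.subgroupOf D.E).map D.act
    have hB : Nat.card B = Nat.card D.V := by
      rw [card_map_of_injective D.act_injective,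
        Nat.card_congr (subgroupOfEquivOfLe D.V_le_E).toEquiv]
    rw [← hB]
    refine abelian_two_card D.hFo D.h35 B
      ((hVp.of_equiv (subgroupOfEquivOfLe D.V_le_E).symm).map _) ?_
    rintro _ ⟨x, hx, rfl⟩ _ ⟨y, hy, rfl⟩
    rw [← map_mul, ← map_mul]
    exact congrArg _ (Subtype.ext (D.S_comm (D.V_le_S (mem_subgroupOf.1 hx)) (D.V_le_S (mem_subgroupOf.1 hy))))
  obtain ⟨P⟩ := (inferInstance : Nonempty (Sylow 2 (Matrix.ProjectiveSpecialLinearGroup (Fin 2) F)))
  haveI := Cfsg.Agent.S0276.result rfl D.h35 P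
  have hP4 : Nat.card (P : Subgroup (Matrix.ProjectiveSpecialLinearGroup (Fin 2) F)) = 4 := IsKleinFour.card_four
  set Q : Subgroup G := ((P : Subgroup (Matrix.ProjectiveSpecialLinearGroup (Fin 2) F)).map D.iso.symm.toMonoidHom).map
    D.N.subtype
  have hQ4 : Nat.card Q = 4 := by
    rw [card_map_of_injective D.N.subtype_injective, card_map_of_injective D.iso.symm.injective, hP4]
  have hQN : Q ≤ D.N := map_subtype_le _
  obtain ⟨R, hR⟩ := (((P.2.map D.iso.symm.toMonoidHom).map D.N.subtype).of_equiv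
    (subgroupOfEquivOfLe (hQN.trans D.N_le)).symm).exists_le_sylow
  have hVE : IsPGroup 2 (D.V.subgroupOf D.E) :=
    hVp.of_equiv (subgroupOfEquivOfLe D.V_le_E).symm
  let VS : Sylow 2 D.E := hVE.toSylow D.V_index
  have hVS : Nat.card (VS : Subgroup D.E) = Nat.card D.V :=
    Nat.card_congr (subgroupOfEquivOfLe D.V_le_E).toEquiv
  have hge : 4 ≤ Nat.card D.V := by
    rw [← hVS, show Nat.card (VS : Subgroup D.E) = Nat.card (R : Subgroup D.E) by
      rw [VS.card_eq_multiplicity, R.card_eq_multiplicity], ← hQ4,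
      ← Nat.card_congr (subgroupOfEquivOfLe (hQN.trans D.N_le)).toEquiv]
    exact card_le_of_le hR
  refine ⟨by omega, ?_⟩
  obtain ⟨c, hc⟩ := MulAction.exists_smul_eq D.E R VS
  have hRQ : Q.subgroupOf D.E = (R : Subgroup D.E) := eq_of_le_of_card_ge hR (by
    rw [Nat.card_congr (subgroupOfEquivOfLe (hQN.trans D.N_le)).toEquiv, hQ4, R.card_eq_multiplicity,
      ← VS.card_eq_multiplicity, hVS]
    omega)
  intro v hv
  have h : (⟨v, hv.2⟩ : D.E) ∈ (VS : Subgroup D.E) := mem_subgroupOf.2 hv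
  rw [← hc, Sylow.coe_subgroup_smul, ← hRQ] at h
  obtain ⟨w, hw, he⟩ := h
  have he : (c : G) * (w : G) * (c : G)⁻¹ = v := congrArg Subtype.val he
  rw [← he]
  exact D.N_conj c c.2 _ (hQN (mem_subgroupOf.1 hw))

theorem card_S : Nat.card (D.S : Subgroup G) = 8 := by rw [D.card_S_eq, D.card_V.1]

theorem sq_V {v : G} (hv : v ∈ D.V) : v * v = 1 := by
  haveI : Fact (Nat.Prime 2) := ⟨Nat.prime_two⟩
  haveI : Finite (Matrix.ProjectiveSpecialLinearGroup (Fin 2) F) := Finite.of_equiv _ D.iso.toEquiv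
  set w := D.iso ⟨v, D.card_V.2 hv⟩
  have hp : IsPGroup 2 (zpowers w) := by
    obtain ⟨k, hk⟩ := (D.S.2.to_le D.V_le_S) ⟨v, hv⟩
    refine IsPGroup.of_card (n := ?_) ?_
    · exact ((Nat.dvd_prime_pow Nat.prime_two).1 (orderOf_dvd_of_pow_eq_one (x := w) (n := 2 ^ k) (by
        rw [← map_pow, ← map_one D.iso]; exact congrArg _ (Subtype.ext (congrArg Subtype.val hk :))))).choose
    · rw [Nat.card_zpowers]
      exact ((Nat.dvd_prime_pow Nat.prime_two).1 (orderOf_dvd_of_pow_eq_one (x := w) (n := 2 ^ k) (by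
        rw [← map_pow, ← map_one D.iso]; exact congrArg _ (Subtype.ext (congrArg Subtype.val hk :))))).choose_spec.2
  obtain ⟨P, hP⟩ := hp.exists_le_sylow
  haveI := Cfsg.Agent.S0276.result rfl D.h35 P
  have h := congrArg Subtype.val (IsKleinFour.mul_self (⟨w, hP (mem_zpowers _)⟩ :
    (P : Subgroup (Matrix.ProjectiveSpecialLinearGroup (Fin 2) F))))
  have h : w * w = 1 := h
  rw [← map_mul, ← map_one D.iso] at h
  exact congrArg Subtype.val (D.iso.injective h)

theorem sq_S {s : G} (hs : s ∈ (D.S : Subgroup G)) : s * s = 1 := by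
  rcases D.S_split hs with h | h
  · exact D.sq_V h
  · have := D.sq_V h
    rwa [show D.t * s * (D.t * s) = D.t * (s * D.t) * s by group, D.S_comm hs D.t_mem,
      show D.t * (D.t * s) * s = (D.t * D.t) * (s * s) by group, D.sq_t, one_mul] at this

end RCtx

end Cfsg.Agent.Lead.JankoRee
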