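import Cfsg.Agent.Lib.Lead.JankoRee.Fusion

/-!
# The element of order `7`
-/

set_option autoImplicit false
set_option linter.style.haveILetI false

namespace Cfsg.Agent.Lead.JankoRee

open Subgroup

universe u v

variable {G : Type u} [Group G] [Finite G] [IsSimpleGroup G] {F : Type v} [Field F] [Fintype F]

namespace RCtx

variable (D : RCtx G F)

/-- `t` in the Sylow subgroup. -/
abbrev tS : D.SS := ⟨D.t, D.t_mem⟩

/-- The stabiliser of `t`. -/
noncomputable abbrev St : Subgroup D.H := MulAction.stabilizer D.H D.tS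

theorem exists_rho' : ∃ ρ : MulAut D.SS, ρ ∈ D.H ∧ ρ D.tS = D.tS ∧
    ∀ x : D.SS, (x : G) ∈ D.V → x ≠ 1 → ρ x ≠ x := by
  obtain ⟨r, hrE, hrN, x, hx, hne⟩ := D.exists_rho
  refine ⟨D.θ ⟨r, hrN⟩, ⟨_, rfl⟩, Subtype.ext ?_, fun y hy hy1 h => ?_⟩
  · rw [θ_apply]; exact mul_inv_eq_iff_eq_mul.2 (D.t_comm hrE)
  · have := D.eq_one_of_fix ⟨_, rfl⟩ (by rw [θ_apply]; exact mul_inv_eq_iff_eq_mul.2 (D.t_comm hrE)) hy hy1 h
    have h' := congrArg (fun a : MulAut D.SS => ((a ⟨x, D.V_le_S hx⟩ : D.SS) : G)) this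
    exact hne h'

omit [IsSimpleGroup G] in
theorem V_three {x a b c : G} (hx : x ∈ D.V) (hx1 : x ≠ 1) (ha : a ∈ D.V) (hb : b ∈ D.V) (hc : c ∈ D.V)
    (h : [1, a, b, c].Nodup) : x = a ∨ x = b ∨ x = c := by
  classical
  by_contra hne
  simp only [not_or] at hne
  have hnd : [x, 1, a, b, c].Nodup := List.nodup_cons.2 ⟨by simp [hx1, hne.1, hne.2.1, hne.2.2], h⟩
  have hsub : [x, 1, a, b, c].toFinset ⊆ (Set.toFinite (D.V : Set G)).toFinset := by
    intro w hw
    rw [Set.Finite.mem_toFinset]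
    simp only [List.mem_toFinset, List.mem_cons, List.not_mem_nil, or_false] at hw
    rcases hw with rfl | rfl | rfl | rfl | rfl
    exacts [hx, one_mem _, ha, hb, hc]
  have := Finset.card_le_card hsub
  rw [List.toFinset_card_of_nodup hnd, ← Nat.card_eq_card_finite_toFinset,
    show Nat.card (D.V : Set G) = 4 from D.card_V.1] at this
  simp at this

theorem orbit_all {x : D.SS} (hx : x ≠ 1) : x ∈ MulAction.orbit D.H D.tS := by
  classical
  haveI : Fact (Nat.Prime 2) := ⟨Nat.prime_two⟩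
  set O := MulAction.orbit D.H D.tS
  obtain ⟨ρ, hρ, hρt, hρfix⟩ := D.exists_rho'
  have hO1 : (1 : D.SS) ∉ O := by
    rintro ⟨h, hh⟩
    have h' : (h : MulAut D.SS) D.tS = 1 := hh
    exact D.t_ne (congrArg Subtype.val ((h : MulAut D.SS).injective (h'.trans (map_one _).symm)))
  have hodd : Odd O.ncard := by
    rw [← MulAction.index_stabilizer]
    exact D.H_odd.of_dvd_nat (index_dvd_card _)
  have hρO : ∀ y ∈ O, ρ y ∈ O := fun y hy => by
    obtain ⟨h, rfl⟩ := hy
    exact ⟨⟨ρ, hρ⟩ * h, mul_smul _ _ _⟩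
  -- every type of element is reached as soon as one of it is
  have htri : ∀ v w : D.SS, (v : G) ∈ D.V → v ≠ 1 → (w : G) ∈ D.V → w ≠ 1 → w = v ∨ w = ρ v ∨ w = ρ (ρ v) := by
    intro v w hv hv1 hw hw1
    have hρV : ∀ y : D.SS, (y : G) ∈ D.V → (ρ y : G) ∈ D.V := fun y hy =>
      D.fix_V hρ (congrArg Subtype.val hρt) hy
    have a1 : ρ v ≠ 1 := fun e => hv1 (ρ.injective (e.trans (map_one ρ).symm))
    have a2 : ρ (ρ v) ≠ 1 := fun e => a1 (ρ.injective (e.trans (map_one ρ).symm))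
    have a3 : ρ (ρ v) ≠ v := fun e => hρfix v hv hv1 (by
      have := D.eq_one_of_fix (h := ρ * ρ) (mul_mem hρ hρ) (by rw [MulAut.mul_apply, hρt, hρt]) hv hv1 e
      have h1 := D.sq_one_of_odd hρ this
      rw [h1]; rfl)
    have := D.V_three hw (fun e => hw1 (Subtype.ext e)) hv (hρV v hv) (hρV _ (hρV v hv)) (by
      simp only [List.nodup_cons, List.mem_cons, List.not_mem_nil, or_false, not_or, List.nodup_nil, and_true,
        not_false_eq_true]
      refine ⟨⟨fun e => hv1 (Subtype.ext e.symm), fun e => a1 (Subtype.ext e.symm), fun e => a2 (Subtype.ext e.symm)⟩,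
        ⟨fun e => hρfix v hv hv1 (Subtype.ext e.symm), fun e => a3 (Subtype.ext e.symm)⟩,
        fun e => hρfix _ (hρV v hv) a1 (Subtype.ext e.symm)⟩)
    rcases this with h | h | h
    exacts [Or.inl (Subtype.ext h), Or.inr (Or.inl (Subtype.ext h)), Or.inr (Or.inr (Subtype.ext h))]
  have hA : (∃ v ∈ O, (v : G) ∈ D.V) → ∀ w : D.SS, (w : G) ∈ D.V → w ≠ 1 → w ∈ O := by
    rintro ⟨v, hv, hvV⟩ w hw hw1
    rcases htri v w hvV (fun e => hO1 (e ▸ hv)) hw hw1 with h | h | h <;> rw [h]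
    exacts [hv, hρO v hv, hρO _ (hρO v hv)]
  have hB : (∃ v ∈ O, v ≠ D.tS ∧ (v : G) ∉ D.V) → ∀ w : D.SS, w ≠ D.tS → (w : G) ∉ D.V → w ∈ O := by
    rintro ⟨v, hv, hvt, hvV⟩ w hwt hwV
    have key : ∀ y : D.SS, y ≠ D.tS → (y : G) ∉ D.V → ((D.tS * y : D.SS) : G) ∈ D.V ∧ D.tS * y ≠ 1 :=
      fun y h1 h2 => ⟨(D.S_split y.2).resolve_left h2, fun e => h1 (by
        rw [← inv_eq_of_mul_eq_one_right e]
        exact Subtype.ext (inv_eq_of_mul_eq_one_right D.sq_t))⟩
    obtain ⟨hv', hv1⟩ := key v hvt hvV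
    obtain ⟨hw', hw1⟩ := key w hwt hwV
    rcases htri _ _ hv' hv1 hw' hw1 with h | h | h
    · rw [mul_left_cancel h]; exact hv
    · rw [map_mul, hρt] at h; rw [mul_left_cancel h]; exact hρO v hv
    · rw [map_mul, hρt, map_mul, hρt] at h; rw [mul_left_cancel h]; exact hρO _ (hρO v hv)
  -- some element other than `t`
  have hne : ∃ v ∈ O, v ≠ D.tS := by
    obtain ⟨g, hg, hgt⟩ := D.not_central
    obtain ⟨n, hn, he⟩ := Cfsg.Agent.Fusion.fusion_of_abelian (Cfsg.Agent.Fusion.sylIn_top D.S)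
      (fun x hx => mem_centralizer_iff.2 fun y hy => D.S_comm hy hx) D.t_mem hg
    exact ⟨⟨g * D.t * g⁻¹, hg⟩, ⟨⟨D.θ ⟨n, hn⟩, _, rfl⟩, Subtype.ext he⟩, fun e => hgt (congrArg Subtype.val e)⟩
  by_cases hAc : ∃ v ∈ O, (v : G) ∈ D.V
  · by_cases hBc : ∃ v ∈ O, v ≠ D.tS ∧ (v : G) ∉ D.V
    · by_cases ht : x = D.tS
      · rw [ht]; exact MulAction.mem_orbit_self _
      · by_cases hV : (x : G) ∈ D.V
        · exact hA hAc x hV hx
        · exact hB hBc x ht hV
    · exfalso
      have hO : O = insert D.tS {w : D.SS | (w : G) ∈ D.V ∧ w ≠ 1} := by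
        ext w
        refine ⟨fun hw => ?_, ?_⟩
        · by_cases hwt : w = D.tS
          · exact Or.inl hwt
          · exact Or.inr ⟨by_contra fun h => hBc ⟨w, hw, hwt, h⟩, fun e => hO1 (e ▸ hw)⟩
        · rintro (rfl | ⟨h1, h2⟩)
          · exact MulAction.mem_orbit_self _
          · exact hA hAc w h1 h2
      rw [hO, Set.ncard_insert_of_notMem (fun h => D.t_not_mem h.1.2) (Set.toFinite _),
        show {w : D.SS | (w : G) ∈ D.V ∧ w ≠ 1} = ((D.V.subgroupOf D.SS : Set D.SS) \ {1}) from rfl,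
        Set.ncard_sdiff_singleton_of_mem (one_mem _),
        show ((D.V.subgroupOf D.SS : Set D.SS)).ncard = 4 by
          rw [← Nat.card_coe_set_eq]
          exact (Nat.card_congr (subgroupOfEquivOfLe D.V_le_S).toEquiv).trans D.card_V.1] at hodd
      exact absurd hodd (by decide)
  · exfalso
    obtain ⟨v, hv, hvt⟩ := hne
    have hBc : ∃ v ∈ O, v ≠ D.tS ∧ (v : G) ∉ D.V := ⟨v, hv, hvt, fun h => hAc ⟨v, hv, h⟩⟩
    have hO : O = ((D.V.subgroupOf D.SS : Set D.SS))ᶜ := by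
      ext w
      refine ⟨fun hw h => hAc ⟨w, hw, h⟩, fun hw => ?_⟩
      by_cases hwt : w = D.tS
      · rw [hwt]; exact MulAction.mem_orbit_self _
      · exact hB hBc w hwt hw
    rw [hO, Set.ncard_compl, show ((D.V.subgroupOf D.SS : Set D.SS)).ncard = 4 by
        rw [← Nat.card_coe_set_eq]
        exact (Nat.card_congr (subgroupOfEquivOfLe D.V_le_S).toEquiv).trans D.card_V.1, D.card_S] at hodd
    exact absurd hodd (by decide)

theorem card_St : Nat.card D.St = 3 ∧ Nat.card D.H = 21 := by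
  classical
  obtain ⟨ρ, hρ, hρt, hρfix⟩ := D.exists_rho'
  haveI : Fact (Nat.Prime 2) := ⟨Nat.prime_two⟩
  obtain ⟨x, hx, hx1⟩ : ∃ x ∈ D.V, x ≠ 1 := by
    obtain ⟨r, -, -, x, hx, hne⟩ := D.exists_rho
    exact ⟨x, hx, fun e => hne (by rw [e]; group)⟩
  set X : D.SS := ⟨x, D.V_le_S hx⟩
  have hX1 : X ≠ 1 := fun e => hx1 (congrArg Subtype.val e)
  set T := ((D.V.subgroupOf D.SS : Set D.SS)) \ {1}
  have hT : T.ncard = 3 := by
    rw [Set.ncard_sdiff_singleton_of_mem (one_mem _), show ((D.V.subgroupOf D.SS : Set D.SS)).ncard = 4 by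
          rw [← Nat.card_coe_set_eq]
          exact (Nat.card_congr (subgroupOfEquivOfLe D.V_le_S).toEquiv).trans D.card_V.1]
  have hfix : ∀ h : D.St, ((((h : D.H) : MulAut D.SS) D.tS : D.SS) : G) = D.t := fun h =>
    congrArg Subtype.val h.2
  let f : D.St → T := fun h => ⟨((h : D.H) : MulAut D.SS) X,
    D.fix_V (h : D.H).2 (hfix h) hx,
    fun e => hX1 (((h : D.H) : MulAut D.SS).injective ((Set.mem_singleton_iff.1 e).trans (map_one _).symm))⟩
  have hf : Function.Injective f := fun a b e => by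
    have e' : ((a : D.H) : MulAut D.SS) X = ((b : D.H) : MulAut D.SS) X := congrArg Subtype.val e
    have h1 := D.eq_one_of_fix (h := ((a⁻¹ * b : D.St) : D.H).1) ((a⁻¹ * b : D.St) : D.H).2 (hfix _) (x := X) hx hX1 (by
      show ((a : D.H) : MulAut D.SS).symm (((b : D.H) : MulAut D.SS) X) = X
      rw [← e', MulEquiv.symm_apply_apply])
    have : a⁻¹ * b = 1 := Subtype.ext (Subtype.ext h1)
    exact inv_mul_eq_one.1 this
  have hle : Nat.card D.St ≤ 3 := by
    rw [← hT, ← Nat.card_coe_set_eq]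
    exact Nat.card_le_card_of_injective f hf
  have hidx : D.St.index = 7 := by
    rw [MulAction.index_stabilizer, show MulAction.orbit D.H D.tS = ({1} : Set D.SS)ᶜ from
      Set.Subset.antisymm (fun w hw e => by
        obtain ⟨h, hh⟩ := hw
        rw [Set.mem_singleton_iff.1 e] at hh
        have h' : (h : MulAut D.SS) D.tS = 1 := hh
        exact D.t_ne (congrArg Subtype.val ((h : MulAut D.SS).injective (h'.trans (map_one _).symm))))
        fun w hw => D.orbit_all hw,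
      Set.ncard_compl, Set.ncard_singleton, D.card_S]
  have hodd : Odd (Nat.card D.St) := D.H_odd.of_dvd_nat (card_subgroup_dvd_card _)
  have hne : Nat.card D.St ≠ 1 := fun h => by
    have h1 : (⟨⟨ρ, hρ⟩, hρt⟩ : D.St) = 1 := haveI := (Nat.card_eq_one_iff_unique.1 h).1; Subsingleton.elim _ _
    exact hρfix X hx hX1 (by rw [show ρ = 1 from congrArg (fun a : D.St => ((a : D.H) : MulAut D.SS)) h1]; rfl)
  have h3 : Nat.card D.St = 3 := by
    obtain ⟨k, hk⟩ := hodd
    omega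
  exact ⟨h3, by rw [← D.St.card_mul_index, h3, hidx]⟩

/-- An element of order `7` in the automiser, fixed-point-free on the involutions, normalised by the stabiliser. -/
theorem exists_seven : ∃ m : D.H, orderOf m = 7 ∧ (zpowers m).Normal ∧
    ∀ (k : ℕ), ¬ 7 ∣ k → ∀ x : D.SS, x ≠ 1 → ((m ^ k : D.H) : MulAut D.SS) x ≠ x := by
  haveI : Fact (Nat.Prime 7) := ⟨by norm_num⟩
  obtain ⟨h3, h21⟩ := D.card_St
  obtain ⟨m, hm⟩ := exists_prime_orderOf_dvd_card' 7 (show 7 ∣ Nat.card D.H from ⟨3, h21⟩)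
  have hz : Nat.card (zpowers m) = 7 := by rw [Nat.card_zpowers, hm]
  refine ⟨m, hm, ?_, fun k hk x hx h => ?_⟩
  · let P : Sylow 7 D.H := Sylow.ofCard (zpowers m) (by
      rw [hz, h21, show (21 : ℕ) = 7 * 3 from rfl, Nat.factorization_mul (by norm_num) (by norm_num), Finsupp.add_apply,
        Nat.Prime.factorization_self (by norm_num), Nat.factorization_eq_zero_of_not_dvd (show ¬ 7 ∣ 3 by norm_num)]; norm_num)
    have h1 : Nat.card (Sylow 7 D.H) = 1 := by
      have hd : Nat.card (Sylow 7 D.H) ∣ 3 := by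
        have := P.card_dvd_index
        have hi : (zpowers m).index = 3 := by
          have := (zpowers m).card_mul_index
          rw [hz, h21] at this
          omega
        rwa [show (P : Subgroup D.H).index = 3 from hi] at this
      have hmod := card_sylow_modEq_one 7 D.H
      rcases (Nat.dvd_prime Nat.prime_three).1 hd with h | h
      · exact h
      · rw [h] at hmod; exact absurd hmod (by decide)
    haveI := (Nat.card_eq_one_iff_unique.1 h1).1
    exact P.normal_of_subsingleton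
  · obtain ⟨g, rfl⟩ := D.orbit_all hx
    have hmem : g⁻¹ * m ^ k * g ∈ D.St := by
      rw [MulAction.mem_stabilizer_iff, mul_smul, mul_smul, inv_smul_eq_iff]
      exact h
    have ho : orderOf (g⁻¹ * m ^ k * g) = 7 := by
      have e : orderOf (m ^ k) = 7 := by
        rw [orderOf_pow, hm, (Nat.Prime.coprime_iff_not_dvd (by norm_num)).2 hk |>.gcd_eq_one, Nat.div_one]
      rw [show g⁻¹ * m ^ k * g = MulAut.conj g⁻¹ (m ^ k) by simp [MulAut.conj_apply]]
      exact (orderOf_injective (MulAut.conj g⁻¹).toMonoidHom (MulAut.conj g⁻¹).injective (m ^ k)).trans e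
    have := orderOf_dvd_natCard (⟨_, hmem⟩ : D.St)
    rw [h3, Subgroup.orderOf_mk, ho] at this
    norm_num at this

end RCtx

end Cfsg.Agent.Lead.JankoRee
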