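import Cfsg.Agent.Lib.Lead.JankoRee.Base
import Cfsg.Agent.Lib.Fusion.BurnsideFusion
import Cfsg.Agent.Lib.Char.ZStar
import Cfsg.Agent.S0802

/-!
# The normaliser of the Sylow 2-subgroup acts as a Frobenius group of order `21`
-/

set_option autoImplicit false
set_option linter.style.haveILetI false

namespace Cfsg.Agent.Lead.JankoRee

open Subgroup

universe u v

variable {G : Type u} [Group G] [Finite G] [IsSimpleGroup G] {F : Type v} [Field F] [Fintype F]

omit [IsSimpleGroup G] in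
/-- An element of order three of `PSL₂` moves a given Sylow four group. -/
theorem exists_moving_klein (h2 : (2 : F) ≠ 0) (h35 : Fintype.card F % 8 = 3 ∨ Fintype.card F % 8 = 5)
    (P : Sylow 2 (Matrix.ProjectiveSpecialLinearGroup (Fin 2) F)) :
    ∃ r ∈ normalizer ((P : Subgroup (Matrix.ProjectiveSpecialLinearGroup (Fin 2) F)) : Set (Matrix.ProjectiveSpecialLinearGroup (Fin 2) F)),
      r ∉ centralizer ((P : Subgroup (Matrix.ProjectiveSpecialLinearGroup (Fin 2) F)) : Set (Matrix.ProjectiveSpecialLinearGroup (Fin 2) F)) := by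
  haveI : Fact (Nat.Prime 2) := ⟨Nat.prime_two⟩
  haveI : Finite (Matrix.ProjectiveSpecialLinearGroup (Fin 2) F) :=
    Finite.of_surjective _ Cfsg.Agent.Small.PSL2.pr_surjective
  obtain ⟨H, ⟨e⟩⟩ := Cfsg.Agent.Classical.SL2Four.exists_alt_four_odd (F := F) h2
  let a : alternatingGroup (Fin 4) := ⟨Equiv.swap 0 1 * Equiv.swap 2 3, Equiv.Perm.mem_alternatingGroup.2 (by decide)⟩
  let b : alternatingGroup (Fin 4) := ⟨Equiv.swap 0 2 * Equiv.swap 1 3, Equiv.Perm.mem_alternatingGroup.2 (by decide)⟩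
  let c : alternatingGroup (Fin 4) := ⟨Equiv.swap 0 1 * Equiv.swap 1 2, Equiv.Perm.mem_alternatingGroup.2 (by decide)⟩
  let f : alternatingGroup (Fin 4) →* Matrix.ProjectiveSpecialLinearGroup (Fin 2) F := H.subtype.comp e.symm.toMonoidHom
  have hf : Function.Injective f := H.subtype_injective.comp e.symm.injective
  let K : Subgroup (alternatingGroup (Fin 4)) :=
    { carrier := {x | x = 1 ∨ x = a ∨ x = b ∨ x = a * b}
      one_mem' := Or.inl rfl
      mul_mem' := fun {x y} hx hy => by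
        rcases hx with rfl | rfl | rfl | rfl <;> rcases hy with rfl | rfl | rfl | rfl <;> decide
      inv_mem' := fun {x} hx => by
        rcases hx with rfl | rfl | rfl | rfl <;> decide }
  have hK4 : Nat.card K = 4 := by
    rw [← SetLike.coe_sort_coe, Nat.card_coe_set_eq,
      show (K : Set (alternatingGroup (Fin 4))) = ↑({1, a, b, a * b} : Finset (alternatingGroup (Fin 4))) by
        ext x; simp [K], Set.ncard_coe_finset]
    decide
  have hKn : ∀ x ∈ K, c * x * c⁻¹ ∈ K := by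
    rintro x (rfl | rfl | rfl | rfl)
    exacts [Or.inl (by group), Or.inr (by decide), Or.inr (by decide), Or.inr (by decide)]
  have h4 : ∀ Q : Sylow 2 (Matrix.ProjectiveSpecialLinearGroup (Fin 2) F),
      Nat.card (Q : Subgroup (Matrix.ProjectiveSpecialLinearGroup (Fin 2) F)) = 4 := fun Q => by
    haveI := Cfsg.Agent.S0276.result rfl h35 Q
    exact IsKleinFour.card_four
  obtain ⟨Q, hQ⟩ := (IsPGroup.of_card (p := 2) (n := 2)
    ((card_map_of_injective hf).trans hK4) : IsPGroup 2 (K.map f)).exists_le_sylow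
  have hQe : K.map f = (Q : Subgroup _) := eq_of_le_of_card_ge hQ (by rw [h4, card_map_of_injective hf, hK4])
  obtain ⟨g, hg⟩ := MulAction.exists_smul_eq (Matrix.ProjectiveSpecialLinearGroup (Fin 2) F) Q P
  have hPe : (P : Subgroup _) = (K.map f).map (MulAut.conj g).toMonoidHom := by
    rw [hQe, ← hg]; rfl
  refine ⟨g * f c * g⁻¹, mem_normalizer_fintype ?_, fun hc => ?_⟩
  · intro x hx
    rw [SetLike.mem_coe, hPe] at hx ⊢
    obtain ⟨_, ⟨k, hk, rfl⟩, rfl⟩ := hx
    refine ⟨f (c * k * c⁻¹), ⟨_, hKn k hk, rfl⟩, ?_⟩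
    simp [map_mul, map_inv, mul_assoc]
  · have h := mem_centralizer_iff.1 hc (g * f a * g⁻¹) (by
      rw [SetLike.mem_coe, hPe]
      exact ⟨f a, ⟨a, Or.inr (Or.inl rfl), rfl⟩, rfl⟩)
    rw [conj_mul, conj_mul, mul_left_inj, mul_right_inj, ← map_mul, ← map_mul] at h
    exact absurd (hf h) (by decide)

namespace RCtx

variable (D : RCtx G F)

/-- The Sylow subgroup. -/
abbrev SS : Subgroup G := (D.S : Subgroup G)

/-- The normaliser of the Sylow subgroup. -/
abbrev NS : Subgroup G := normalizer (D.SS : Set G)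

/-- Its action. -/
noncomputable abbrev θ : D.NS →* MulAut D.SS := D.SS.normalizerMonoidHom

/-- The automiser. -/
noncomputable abbrev H : Subgroup (MulAut D.SS) := (D.θ).range

omit [IsSimpleGroup G] in
theorem θ_apply (g : D.NS) (x : D.SS) : ((D.θ g x : D.SS) : G) = (g : G) * x * (g : G)⁻¹ := rfl

omit [IsSimpleGroup G] in
theorem exists_of_mem {h : MulAut D.SS} (hh : h ∈ D.H) : ∃ g : G, g ∈ D.NS ∧ ∀ x : D.SS, ((h x : D.SS) : G) = g * x * g⁻¹ := by
  obtain ⟨g, rfl⟩ := hh
  exact ⟨g, g.2, fun _ => rfl⟩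

omit [IsSimpleGroup G] in
theorem H_odd : Odd (Nat.card D.H) := by
  rw [← Nat.not_even_iff_odd, even_iff_two_dvd, ← index_ker, normalizerMonoidHom_ker]
  intro h
  haveI : Fact (Nat.Prime 2) := ⟨Nat.prime_two⟩
  refine D.S.not_dvd_index ?_
  have h1 : D.SS ≤ centralizer (D.SS : Set G) := fun x hx => mem_centralizer_iff.2 fun y hy => D.S_comm hy hx
  have h2 : (centralizer (D.SS : Set G)).relIndex D.NS ∣ D.SS.relIndex D.NS := relIndex_dvd_of_le_left _ h1
  exact (h.trans h2).trans (relIndex_dvd_index_of_le le_normalizer)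

omit [IsSimpleGroup G] in
theorem sq_one_of_odd {h : MulAut D.SS} (hh : h ∈ D.H) (h2 : h * h = 1) : h = 1 := by
  by_contra hne
  have ho : orderOf (⟨h, hh⟩ : D.H) = 2 :=
    haveI : Fact (Nat.Prime 2) := ⟨Nat.prime_two⟩
    orderOf_eq_prime (by rw [pow_two]; exact Subtype.ext h2) fun e => hne (congrArg Subtype.val e)
  have := ho ▸ orderOf_dvd_natCard (⟨h, hh⟩ : D.H)
  exact (Nat.not_even_iff_odd.2 D.H_odd) (even_iff_two_dvd.2 this)

omit [IsSimpleGroup G] in
theorem fix_V {h : MulAut D.SS} (hh : h ∈ D.H) (ht : ((h ⟨D.t, D.t_mem⟩ : D.SS) : G) = D.t) {x : D.SS}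
    (hx : (x : G) ∈ D.V) : ((h x : D.SS) : G) ∈ D.V := by
  obtain ⟨g, -, hg⟩ := D.exists_of_mem hh
  have hgC : g ∈ D.C := D.mem_C.2 (mul_inv_eq_iff_eq_mul.1 ((hg _).symm.trans ht))
  refine ⟨(h x).2, ?_⟩
  rw [hg]
  have hN := D.card_V.2 hx
  rcases D.split hgC with he | he
  · exact D.N_le (D.N_conj g he _ hN)
  · have := D.N_le (D.N_conj _ he _ hN)
    rwa [show D.t * g * (x : G) * (D.t * g)⁻¹ = D.t * (g * x * g⁻¹) * D.t⁻¹ by group,
      ← hg, D.S_comm D.t_mem (h x).2, mul_inv_cancel_right, hg] at this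

omit [IsSimpleGroup G] in
theorem eq_one_of_fix {h : MulAut D.SS} (hh : h ∈ D.H) (ht : ((h ⟨D.t, D.t_mem⟩ : D.SS) : G) = D.t) {x : D.SS}
    (hx : (x : G) ∈ D.V) (hx1 : x ≠ 1) (hfix : h x = x) : h = 1 := by
  classical
  have hht : h ⟨D.t, D.t_mem⟩ = ⟨D.t, D.t_mem⟩ := Subtype.ext ht
  have hV : ∀ y : D.SS, (y : G) ∈ D.V → h (h y) = y := by
    intro y hy
    by_cases hy1 : h y = y
    · rw [hy1, hy1]
    -- four elements in `V`
    have hyx : y ≠ x := fun e => hy1 (e ▸ hfix)
    have hy0 : y ≠ 1 := fun e => hy1 (by rw [e, map_one])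
    have h1 := D.fix_V hh ht hy
    have h2 := D.fix_V hh ht h1
    have a1 : h y ≠ x := fun e => hyx (h.injective (e.trans hfix.symm))
    have a2 : h y ≠ 1 := fun e => hy0 (h.injective (e.trans (map_one h).symm))
    have b1 : h (h y) ≠ x := fun e => a1 (h.injective (e.trans hfix.symm))
    have b2 : h (h y) ≠ 1 := fun e => a2 (h.injective (e.trans (map_one h).symm))
    have b3 : h (h y) ≠ h y := fun e => hy1 (h.injective e)
    by_contra b4
    have hsub : ({(1 : G), (x : G), (y : G), ((h y : D.SS) : G), ((h (h y) : D.SS) : G)} : Finset G) ⊆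
        (Set.toFinite (D.V : Set G)).toFinset := by
      intro w hw
      rw [Set.Finite.mem_toFinset]
      simp only [Finset.mem_insert, Finset.mem_singleton] at hw
      rcases hw with rfl | rfl | rfl | rfl | rfl
      exacts [one_mem _, hx, hy, h1, h2]
    have hc := Finset.card_le_card hsub
    rw [← Nat.card_eq_card_finite_toFinset, show Nat.card (D.V : Set G) = 4 from D.card_V.1] at hc
    have c1 : (1 : G) ≠ x := fun e => hx1 (Subtype.ext e.symm)
    have c2 : (1 : G) ≠ y := fun e => hy0 (Subtype.ext e.symm)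
    have c3 : (1 : G) ≠ (h y : D.SS) := fun e => a2 (Subtype.ext e.symm)
    have c4 : (1 : G) ≠ (h (h y) : D.SS) := fun e => b2 (Subtype.ext e.symm)
    have c5 : (x : G) ≠ y := fun e => hyx (Subtype.ext e.symm)
    have c6 : (x : G) ≠ (h y : D.SS) := fun e => a1 (Subtype.ext e.symm)
    have c7 : (x : G) ≠ (h (h y) : D.SS) := fun e => b1 (Subtype.ext e.symm)
    have c8 : (y : G) ≠ (h y : D.SS) := fun e => hy1 (Subtype.ext e.symm)
    have c9 : (y : G) ≠ (h (h y) : D.SS) := fun e => b4 (Subtype.ext e.symm)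
    have c10 : ((h y : D.SS) : G) ≠ (h (h y) : D.SS) := fun e => b3 (Subtype.ext e.symm)
    rw [Finset.card_insert_of_notMem (by simp [c1, c2, c3, c4]),
      Finset.card_insert_of_notMem (by simp [c5, c6, c7]),
      Finset.card_insert_of_notMem (by simp [c8, c9]),
      Finset.card_insert_of_notMem (by simp [c10]), Finset.card_singleton] at hc
    omega
  refine D.sq_one_of_odd hh (MulEquiv.ext fun s => ?_)
  rw [MulAut.mul_apply, MulAut.one_apply]
  rcases D.S_split s.2 with hs | hs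
  · exact hV s hs
  · have e := hV (⟨D.t, D.t_mem⟩ * s) hs
    rwa [map_mul, hht, map_mul, hht, mul_right_inj] at e

theorem exists_rho : ∃ r : G, r ∈ D.E ∧ r ∈ D.NS ∧ ∃ x ∈ D.V, r * x * r⁻¹ ≠ x := by
  haveI : Fact (Nat.Prime 2) := ⟨Nat.prime_two⟩
  haveI : Finite (Matrix.ProjectiveSpecialLinearGroup (Fin 2) F) := Finite.of_equiv _ D.iso.toEquiv
  set W := (D.V.subgroupOf D.N).map D.iso.toMonoidHom
  have hW : Nat.card W = 4 := by
    rw [card_map_of_injective D.iso.injective, Nat.card_congr (subgroupOfEquivOfLe D.card_V.2).toEquiv, D.card_V.1]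
  have hWp : IsPGroup 2 W := IsPGroup.of_card (n := 2) hW
  obtain ⟨P, hP⟩ := hWp.exists_le_sylow
  haveI := Cfsg.Agent.S0276.result rfl D.h35 P
  have hWP : W = (P : Subgroup _) := eq_of_le_of_card_ge hP (by rw [hW, IsKleinFour.card_four])
  have hPab : IsMulCommutative ↥(P : Subgroup (Matrix.ProjectiveSpecialLinearGroup (Fin 2) F)) :=
    ⟨⟨fun a b => IsKleinFour.isMulCommutative.1.1 a b⟩⟩
  obtain ⟨r', hr', hr'c⟩ := exists_moving_klein (two_ne_zero_of_odd_card D.hFo) D.h35 P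
  set r : D.N := D.iso.symm r'
  have hrV : ∀ x ∈ D.V, (r : G) * x * (r : G)⁻¹ ∈ D.V := by
    intro x hx
    have hxP : D.iso ⟨x, D.card_V.2 hx⟩ ∈ (P : Subgroup _) := hWP ▸ ⟨⟨x, D.card_V.2 hx⟩, mem_subgroupOf.2 hx, rfl⟩
    have h := (mem_normalizer_iff.1 hr' _).1 hxP
    rw [← hWP] at h
    obtain ⟨y, hy, he⟩ := h
    have he : D.iso y = D.iso (r * ⟨x, D.card_V.2 hx⟩ * r⁻¹) := by
      rw [map_mul, map_mul, map_inv, D.iso.apply_symm_apply]; exact he
    have := congrArg Subtype.val (D.iso.injective he)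
    rw [coe_mul, coe_mul, coe_inv] at this
    rw [← this]
    exact mem_subgroupOf.1 hy
  refine ⟨r, D.N_le r.2, ?_, ?_⟩
  · refine mem_normalizer_fintype ?_
    intro s hs
    rcases D.S_split hs with h | h
    · exact D.V_le_S (hrV s h)
    · have h' := mul_mem D.t_mem (D.V_le_S (hrV _ h))
      rwa [show D.t * ((r : G) * (D.t * s) * (r : G)⁻¹) = D.t * ((r : G) * D.t) * s * (r : G)⁻¹ by group,
        D.t_comm (D.N_le r.2), show D.t * (D.t * (r : G)) * s * (r : G)⁻¹ = (D.t * D.t) * ((r : G) * s * (r : G)⁻¹) by group,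
        D.sq_t, one_mul] at h'
  · by_contra hne
    refine hr'c (mem_centralizer_iff.2 fun w hw => ?_)
    rw [SetLike.mem_coe, ← hWP] at hw
    obtain ⟨y, hy, rfl⟩ := hw
    have hy' : (r : G) * y * (r : G)⁻¹ = y := by
      by_contra h
      exact hne ⟨y, mem_subgroupOf.1 hy, h⟩
    have : y * r = r * y := Subtype.ext (mul_inv_eq_iff_eq_mul.1 hy').symm
    have h := congrArg D.iso this
    rw [map_mul, map_mul, D.iso.apply_symm_apply] at h
    exact h

theorem not_central : ∃ g : G, g * D.t * g⁻¹ ∈ D.SS ∧ g * D.t * g⁻¹ ≠ D.t := by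
  by_contra hne
  have hiso : ∀ g : G, g * D.t * g⁻¹ ∈ D.SS → g * D.t * g⁻¹ = D.t := fun g hg =>
    by_contra fun h => hne ⟨g, hg, h⟩
  have hO : Cfsg.oddCore G = ⊥ := by
    rcases IsSimpleGroup.eq_bot_or_eq_top_of_normal (Cfsg.oddCore G) inferInstance with h | h
    · exact h
    · exfalso
      have h2 : ¬ 2 ∣ Nat.card (Cfsg.oddCore G) := fun hd =>
        Nat.prime_two.ne_one (Nat.eq_one_of_dvd_coprimes (Cfsg.Agent.Fusion.card_pPrimeCore_coprime 2 G) hd dvd_rfl)
      rw [h, card_top, ← D.ht] at h2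
      exact h2 orderOf_dvd_natCard'
  have hc := Cfsg.Agent.Char.zStar_central (Cfsg.Agent.Char.oddInvol_of_isolated_sylow D.ht D.t_mem hiso) hO
  exact D.hne (eq_top_iff.2 fun g _ => D.mem_C.2 (hc g).symm)
where orderOf_dvd_natCard' : orderOf D.t ∣ Nat.card G := orderOf_dvd_natCard _

end RCtx

end Cfsg.Agent.Lead.JankoRee
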